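import Cfsg.Agent.Omega.HT.LineJ
import Cfsg.Agent.MinSimple.Choice97

/-!
# THEOREM SYL^ (bb OMEGA #21666, helper916), steps (2), (3), over a line `{1, a, b, ab}`, partner-free

`XT h W` : groups `W i ≤ O₂(C(d i))`, `[O₂(C(d i)), W i] ≤ ⟨d i⟩`, conjugate, swapping the other two points.
`Cf h W T` : `T ≤ C(a)` is a 2-group of odd index in `N_G({1, a, b, ab})`, with the decomposition of `Ω₁Z(T)` and `(zt)`.
* `Cf.main` : `T < T'`, `T' ≤ C(a)` a 2-group, `1 ≠ x ∈ Ω₁Z(T') ∩ C(X)`, `X = ⟨W i⟩` `⟹` there are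
  `1 ≠ k ∈ Ω₁Z(T) ∩ C(X)` and `γ ∈ C(k)`, `a^γ = a k`, `b^γ = b k`.
-/

set_option autoImplicit false
set_option linter.unusedSectionVars false

namespace Cfsg.Agent.Omega.IId.SymWrD.Hw.TwoK

open Subgroup Cfsg
open Cfsg.Agent.ZN (o2 zc)
open Cfsg.Agent.Omega.HT.LineOf (Ln ln pts dd Act fun_cases third_eq)
open Cfsg.Agent.Omega.BTwo (O2 cj)
open Cfsg.Agent.MinSimple.VModule (le_normalizer_o2 o2_isPGroup o2_le mem_zc zc_le le_o2 o2_le_of_sylow)

universe u

variable {G : Type u} [Group G]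

/-- `O₂(C(d i))` -/
abbrev Qd (a b : G) (i : Fin 3) : Subgroup G := o2 (centralizer ({dd a b i} : Set G))

/-- `X = ⟨W i⟩` -/
abbrev XW (W : Fin 3 → Subgroup G) : Subgroup G := ⨆ i, W i

/-- the groups `W i` -/
structure XT {a b : G} (h : Ln a b) (W : Fin 3 → Subgroup G) : Prop where
  VQ : ∀ i, ln h ≤ Qd a b i
  QV : ∀ i, ∀ g ∈ Qd a b i, ∀ v ∈ ln h, g * v * g⁻¹ * v⁻¹ ∈ pts a b i
  W_le_Q : ∀ i, W i ≤ Qd a b i
  QW : ∀ i, ∀ g ∈ Qd a b i, ∀ w ∈ W i, g * w * g⁻¹ * w⁻¹ ∈ pts a b i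
  cjW : ∀ (g : G) (i j : Fin 3), g * dd a b i * g⁻¹ = dd a b j → ∀ w ∈ W i, g * w * g⁻¹ ∈ W j
  sw : ∀ i j k : Fin 3, j ≠ i → k ≠ i → ∃ w ∈ W i, w * dd a b j * w⁻¹ = dd a b k

theorem third : ∀ i j : Fin 3, ∃ k, k ≠ i ∧ k ≠ j := by decide

namespace XT

variable {a b : G} {h : Ln a b} {W : Fin 3 → Subgroup G} (x : XT h W)
include x

theorem V_comm {v w : G} (hv : v ∈ ln h) (hw : w ∈ ln h) : v * w = w * v := by
  rcases hv with rfl | ⟨i, rfl⟩
  · rw [one_mul, mul_one]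
  · rcases hw with rfl | ⟨j, rfl⟩
    · rw [one_mul, mul_one]
    · exact h.dd_comm i j

theorem V_sq {v : G} (hv : v ∈ ln h) : v * v = 1 := by
  rcases hv with rfl | ⟨i, rfl⟩
  · exact mul_one 1
  · exact h.dd_sq i

theorem V_le_cen : ln h ≤ centralizer (ln h : Set G) := fun v hv => by
  rw [mem_centralizer_iff]
  exact fun w hw => x.V_comm hw hv

theorem Q_comm {i : Fin 3} {g : G} (hg : g ∈ Qd a b i) : g * dd a b i = dd a b i * g :=
  mem_centralizer_singleton_iff.1 (o2_le _ hg)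

theorem cen_le_C (j : Fin 3) : centralizer (ln h : Set G) ≤ centralizer ({dd a b j} : Set G) := fun g hg =>
  mem_centralizer_singleton_iff.2 (mem_centralizer_iff.1 hg _ (h.dd_mem j)).symm

theorem W_le_X (i : Fin 3) : W i ≤ XW W := le_iSup W i

/-- an element of `Q j` fixing another point centralises `L` -/
theorem mem_cen_Q {i j : Fin 3} (hij : i ≠ j) {w : G} (hw : w ∈ Qd a b j) (hi : w * dd a b i * w⁻¹ = dd a b i) :
    w ∈ centralizer (ln h : Set G) := by
  have h1 : w * dd a b i = dd a b i * w := mul_inv_eq_iff_eq_mul.1 hi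
  have h2 := x.Q_comm hw
  rw [mem_centralizer_iff]
  rintro v (rfl | ⟨l, rfl⟩)
  · rw [one_mul, mul_one]
  · by_cases hl : l = i
    · rw [hl]; exact h1.symm
    by_cases hl' : l = j
    · rw [hl']; exact h2.symm
    · rw [← h.dd_mul hij (Ne.symm hl) (Ne.symm hl'), mul_assoc, ← h2, ← mul_assoc, ← h1, mul_assoc]

theorem trans_X_one (i k : Fin 3) : ∃ y ∈ XW W, y * dd a b i * y⁻¹ = dd a b k := by
  obtain ⟨m, hm1, hm2⟩ := third i k
  obtain ⟨w, hw, e⟩ := x.sw m i k (Ne.symm hm1) (Ne.symm hm2)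
  exact ⟨w, x.W_le_X m hw, e⟩

variable [Finite G]

theorem Q_le_NV (i : Fin 3) : Qd a b i ≤ normalizer (ln h : Set G) := by
  intro g hg
  refine BTwo.mem_normalizer_of_conj fun v hv => ?_
  have h1 := h.pts_le i (x.QV i g hg v hv)
  have e : g * v * g⁻¹ = g * v * g⁻¹ * v⁻¹ * v := by group
  rw [e]
  exact mul_mem h1 hv

theorem X_le_NV : XW W ≤ normalizer (ln h : Set G) := iSup_le fun i => (x.W_le_Q i).trans (x.Q_le_NV i)

theorem perm {g : G} (hg : g ∈ normalizer (ln h : Set G)) (i : Fin 3) : ∃ j, g * dd a b i * g⁻¹ = dd a b j := by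
  rcases BTwo.conj_mem_of_normalizer hg (h.dd_mem i) with e | ⟨j, e⟩
  · exact absurd (conj_eq_one_iff.1 e) (h.dd_ne i)
  · exact ⟨j, e⟩

/-- `X` is 2-transitive on the points -/
theorem trans_X {i j k l : Fin 3} (hij : i ≠ j) (hkl : k ≠ l) :
    ∃ y ∈ XW W, y * dd a b i * y⁻¹ = dd a b k ∧ y * dd a b j * y⁻¹ = dd a b l := by
  obtain ⟨y, hy, e1⟩ := x.trans_X_one i k
  obtain ⟨j', e2⟩ := x.perm (x.X_le_NV hy) j
  have hj' : j' ≠ k := by
    rintro rfl
    exact hij (h.dd_inj (mul_left_cancel (mul_right_cancel (e1.trans e2.symm))))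
  obtain ⟨w, hw, e3⟩ := x.sw k j' l hj' (Ne.symm hkl)
  have hwk := x.Q_comm (x.W_le_Q k hw)
  refine ⟨w * y, mul_mem (x.W_le_X k hw) hy, ?_, ?_⟩
  · calc w * y * dd a b i * (w * y)⁻¹ = w * (y * dd a b i * y⁻¹) * w⁻¹ := by group
      _ = dd a b k := by rw [e1, hwk, mul_inv_cancel_right]
  · calc w * y * dd a b j * (w * y)⁻¹ = w * (y * dd a b j * y⁻¹) * w⁻¹ := by group
      _ = dd a b l := by rw [e2, e3]

theorem X_eq {i j : Fin 3} (hij : i ≠ j) : XW W = W i ⊔ W j := by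
  apply le_antisymm
  · refine iSup_le fun k => ?_
    by_cases hk : k = i
    · subst hk; exact le_sup_left
    by_cases hk' : k = j
    · subst hk'; exact le_sup_right
    obtain ⟨w, hw, e⟩ := x.sw i j k (Ne.symm hij) hk
    intro y hy
    have e' : w⁻¹ * dd a b k * w⁻¹⁻¹ = dd a b j := by rw [← e]; group
    have h1 := x.cjW w⁻¹ k j e' y hy
    rw [inv_inv] at h1
    have h2 : w ∈ W i ⊔ W j := mem_sup_left hw
    have h3 := mul_mem (mul_mem h2 (mem_sup_right h1)) (inv_mem h2)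
    have e3 : w * (w⁻¹ * y * w) * w⁻¹ = y := by group
    rwa [e3] at h3
  · exact sup_le (x.W_le_X i) (x.W_le_X j)

theorem NV_le_NX : normalizer (ln h : Set G) ≤ normalizer (XW W : Set G) := by
  intro g hg
  rw [← BTwo.cj_eq_self_iff]
  have h1 : cj g (XW W) ≤ XW W := by
    rw [BTwo.cj_iSup]
    refine iSup_le fun i => ?_
    obtain ⟨j, hj⟩ := x.perm hg i
    rintro _ ⟨y, hy, rfl⟩
    exact x.W_le_X j (x.cjW g i j hj y hy)
  exact eq_of_le_of_card_ge h1 (BTwo.card_cj g (XW W)).ge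

theorem cen_VX {v : G} (hv : v ∈ ln h) (hX : v ∈ centralizer (XW W : Set G)) : v = 1 := by
  rcases hv with rfl | ⟨i, rfl⟩
  · rfl
  · exfalso
    obtain ⟨k, hk, -⟩ := third i i
    obtain ⟨y, hy, e⟩ := x.trans_X_one i k
    rw [mem_centralizer_iff.1 hX y hy, mul_inv_cancel_right] at e
    exact hk (h.dd_inj e).symm

theorem mem_cen_X {i j : Fin 3} (hij : i ≠ j) {y : G} (hi : y ∈ centralizer (W i : Set G))
    (hj : y ∈ centralizer (W j : Set G)) : y ∈ centralizer (XW W : Set G) := by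
  rw [x.X_eq hij]
  exact BTwo.mem_cen_sup hi hj

theorem R_cen_W (i : Fin 3) : dd a b i ∈ centralizer (W i : Set G) := by
  rw [mem_centralizer_iff]
  exact fun w hw => x.Q_comm (x.W_le_Q i hw)

/-- `N_K(L)` centralises `L` -/
theorem cen_of {K : Subgroup G} (hX : XW W ≤ normalizer (K : Set G))
    (h2 : ∀ g ∈ K, g ∈ normalizer (ln h : Set G) → ∃ n : ℕ, g ^ 2 ^ n ∈ centralizer (ln h : Set G)) {g : G}
    (hgK : g ∈ K) (hgN : g ∈ normalizer (ln h : Set G)) : g ∈ centralizer (ln h : Set G) := by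
  obtain ⟨σ, hσ⟩ := h.exists_act hgN
  obtain ⟨n, hn⟩ := h2 g hgK hgN
  rcases fun_cases σ (h.act_inj hσ) with h0 | h0 | ⟨i, j, l, hij, hil, hjl, e1, e2, e3⟩
  · rw [h.mem_cen_iff]
    intro i
    rw [hσ i, h0 i]
    rfl
  · exact h.cen_of_three hσ h0 hn
  · exfalso
    obtain ⟨y, hy, g1, g2⟩ := x.trans_X (i := i) (j := j) (k := j) (l := l) hij hjl
    have g3 : y * dd a b l * y⁻¹ = dd a b i := by
      rw [← h.dd_mul hij hil hjl]
      calc y * (dd a b i * dd a b j) * y⁻¹ = (y * dd a b i * y⁻¹) * (y * dd a b j * y⁻¹) := by group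
        _ = dd a b i := by rw [g1, g2]; exact h.dd_mul hjl hij.symm hil.symm
    have inv : ∀ {i j : Fin 3}, y * dd a b i * y⁻¹ = dd a b j → y⁻¹ * dd a b j * y = dd a b i := by
      intro i j e; rw [← e]; group
    -- the conjugate
    obtain ⟨g', hg'⟩ : ∃ g', g' = y * g * y⁻¹ := ⟨_, rfl⟩
    have hg'K : g' ∈ K := by rw [hg']; exact BTwo.conj_mem_of_normalizer (hX hy) hgK
    have k1 : g' * dd a b j * g'⁻¹ = dd a b j := by
      calc g' * dd a b j * g'⁻¹ = y * (g * (y⁻¹ * dd a b j * y) * g⁻¹) * y⁻¹ := by rw [hg']; group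
        _ = dd a b j := by rw [inv g1, hσ, e1, g1]
    have k2 : g' * dd a b l * g'⁻¹ = dd a b i := by
      calc g' * dd a b l * g'⁻¹ = y * (g * (y⁻¹ * dd a b l * y) * g⁻¹) * y⁻¹ := by rw [hg']; group
        _ = dd a b i := by rw [inv g2, hσ, e2, g3]
    have k3 : g' * dd a b i * g'⁻¹ = dd a b l := by
      calc g' * dd a b i * g'⁻¹ = y * (g * (y⁻¹ * dd a b i * y) * g⁻¹) * y⁻¹ := by rw [hg']; group
        _ = dd a b l := by rw [inv g3, hσ, e3, g2]
    -- the 3-cycle `g g'`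
    have m1 : g * g' * dd a b i * (g * g')⁻¹ = dd a b j := by
      calc g * g' * dd a b i * (g * g')⁻¹ = g * (g' * dd a b i * g'⁻¹) * g⁻¹ := by group
        _ = dd a b j := by rw [k3, hσ, e3]
    have m2 : g * g' * dd a b j * (g * g')⁻¹ = dd a b l := by
      calc g * g' * dd a b j * (g * g')⁻¹ = g * (g' * dd a b j * g'⁻¹) * g⁻¹ := by group
        _ = dd a b l := by rw [k1, hσ, e2]
    have m3 : g * g' * dd a b l * (g * g')⁻¹ = dd a b i := by
      calc g * g' * dd a b l * (g * g')⁻¹ = g * (g' * dd a b l * g'⁻¹) * g⁻¹ := by group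
        _ = dd a b i := by rw [k2, hσ, e1]
    have hg'N : g' ∈ normalizer (ln h : Set G) := by
      rw [hg']
      exact mul_mem (mul_mem (x.X_le_NV hy) hgN) (inv_mem (x.X_le_NV hy))
    have hNN : g * g' ∈ normalizer (ln h : Set G) := mul_mem hgN hg'N
    obtain ⟨τ, hτ⟩ := h.exists_act hNN
    obtain ⟨n', hn'⟩ := h2 _ (mul_mem hgK hg'K) hNN
    have t1 : τ i = j := h.dd_inj ((hτ i).symm.trans m1)
    have t2 : τ j = l := h.dd_inj ((hτ j).symm.trans m2)
    have t3 : τ l = i := h.dd_inj ((hτ l).symm.trans m3)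
    have hall : ∀ s : Fin 3, s = i ∨ s = j ∨ s = l := by
      intro s
      by_cases s1 : s = i
      · exact Or.inl s1
      by_cases s2 : s = j
      · exact Or.inr (Or.inl s2)
      · exact Or.inr (Or.inr (third_eq hij.symm hil.symm hjl s1 s2))
    have h3 : ∀ s, τ (τ (τ s)) = s := by
      intro s
      rcases hall s with rfl | rfl | rfl
      · rw [t1, t2, t3]
      · rw [t2, t3, t1]
      · rw [t3, t1, t2]
    have h4 := h.cen_of_three hτ h3 hn'
    rw [h.mem_cen_iff] at h4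
    exact hij (h.dd_inj ((h4 i).symm.trans m1))

end XT

/-- the configuration -/
structure Cf {a b : G} (h : Ln a b) (W : Fin 3 → Subgroup G) (T : Subgroup G) : Prop where
  bt : XT h W
  char2 : IsCharacteristicTwoType G
  Tp : IsPGroup 2 T
  TN : T ≤ normalizer (ln h : Set G)
  Ta : T ≤ centralizer ({a} : Set G)
  syl : ¬ 2 ∣ T.relIndex (normalizer (ln h : Set G))
  dec : ∀ z ∈ zc T, ∃ v ∈ ln h, ∃ c, (∀ y ∈ XW W, y * c = c * y) ∧ (∀ t ∈ T, t * c = c * t) ∧
    z = v * c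
  zt : ∀ t ∈ T, ∀ c ∈ T, c * c = 1 → (∀ s ∈ T, s ∈ centralizer (ln h : Set G) → s * c = c * s) →
    t * c * t⁻¹ = c ∨ t * c * t⁻¹ = c * a

theorem mem_sup_nrm {A B : Subgroup G} (h : A ≤ normalizer (B : Set G)) {x : G} (hx : x ∈ A ⊔ B) :
    ∃ a ∈ A, ∃ b ∈ B, a * b = x := by
  have h1 : x ∈ ((A ⊔ B : Subgroup G) : Set G) := hx
  rw [coe_mul_of_left_le_normalizer_right A B h] at h1
  exact Set.mem_mul.mp h1

/-- `T⟨w⟩` is a 2-group -/
theorem sup_zp [Finite G] {T : Subgroup G} (hT : IsPGroup 2 T) {w : G} (hw : w ∈ normalizer (T : Set G))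
    (h2 : w * w ∈ T) : IsPGroup 2 (T ⊔ zpowers w : Subgroup G) := by
  obtain ⟨n, hn⟩ := hT ⟨w * w, h2⟩
  have hn' : w ^ 2 ^ (n + 1) = 1 := by
    have h3 : (w * w) ^ 2 ^ n = 1 := by simpa using congrArg Subtype.val hn
    rw [pow_succ, mul_comm, pow_mul, pow_two]; exact h3
  have h4 : IsPGroup 2 (zpowers w) := by
    rintro ⟨_, i, rfl⟩
    refine ⟨n + 1, Subtype.ext ?_⟩
    show (w ^ i) ^ 2 ^ (n + 1) = 1
    rw [← zpow_natCast, zpow_comm, zpow_natCast, hn', one_zpow]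
  exact IsPGroup.to_sup_of_normal_left' hT h4 (by rw [zpowers_le]; exact hw)

/-- `O₂(N) ≤ O₂(H)` for `N` normal in `H` -/
theorem o2_le_o2 {N H : Subgroup G} (hN : N ≤ H) (hH : H ≤ normalizer (N : Set G)) : o2 N ≤ o2 H := by
  refine le_o2 ((o2_le N).trans hN) (o2_isPGroup N) fun g hg => ?_
  rw [← BTwo.cj_eq_self_iff]
  have h1 : cj g N = N := BTwo.cj_eq_self_iff.2 (hH hg)
  show cj g (O2 N) = O2 N
  rw [BTwo.cj_O2, h1]

namespace Cf

variable {a b : G} {h : Ln a b} {W : Fin 3 → Subgroup G} {T : Subgroup G} (C : Cf h W T)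
include C

theorem mem_L {v : G} (hv : v ∈ ln h) : v = 1 ∨ v = a ∨ v = b ∨ v = a * b := by
  rcases hv with e | ⟨i, e⟩
  · exact Or.inl e
  · fin_cases i
    · exact Or.inr (Or.inl e)
    · exact Or.inr (Or.inr (Or.inl e))
    · exact Or.inr (Or.inr (Or.inr e))

theorem aL : a ∈ ln h := h.dd_mem 0
theorem bL : b ∈ ln h := h.dd_mem 1
theorem abL : a * b ∈ ln h := h.dd_mem 2

theorem sqL {v : G} (hv : v ∈ ln h) : v * v = 1 := C.bt.V_sq hv

theorem commL {v w : G} (hv : v ∈ ln h) (hw : w ∈ ln h) : v * w = w * v := C.bt.V_comm hv hw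

/-- two commuting involutions -/
theorem mem_cen_L {g : G} (h1 : g * a = a * g) (h2 : g * b = b * g) : g ∈ centralizer (ln h : Set G) := by
  rw [mem_centralizer_iff]
  intro v hv
  rcases C.mem_L hv with rfl | rfl | rfl | rfl
  · rw [one_mul, mul_one]
  · exact h1.symm
  · exact h2.symm
  · calc a * b * g = a * (b * g) := by group
      _ = a * g * b := by rw [← h2]; group
      _ = g * (a * b) := by rw [← h1]; group

variable [Finite G]

theorem mem_N {g : G} (h1 : g * a * g⁻¹ ∈ ln h) (h2 : g * b * g⁻¹ ∈ ln h) : g ∈ normalizer (ln h : Set G) := by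
  refine BTwo.mem_normalizer_of_conj fun v hv => ?_
  rcases C.mem_L hv with rfl | rfl | rfl | rfl
  · have e : g * 1 * g⁻¹ = 1 := by group
    rw [e]; exact one_mem _
  · exact h1
  · exact h2
  · have e : g * (a * b) * g⁻¹ = g * a * g⁻¹ * (g * b * g⁻¹) := by group
    rw [e]; exact mul_mem h1 h2

/-- `T` is a maximal 2-subgroup of `N(L)` -/
theorem max {R : Subgroup G} (hR : IsPGroup 2 R) (hTR : T ≤ R) (hRN : R ≤ normalizer (ln h : Set G)) : R ≤ T := by
  have h1 := HT.card_dvd_card C.TN C.syl hR hRN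
  exact (eq_of_le_of_card_ge hTR (Nat.le_of_dvd Nat.card_pos h1)).symm.le

theorem not_mem_N {w : G} (hw : w ∈ normalizer (T : Set G)) (hw2 : w * w ∈ T) (hwT : w ∉ T) :
    w ∉ normalizer (ln h : Set G) := by
  intro hwN
  have h2 := C.max (sup_zp C.Tp hw hw2) le_sup_left (sup_le C.TN (by rw [zpowers_le]; exact hwN))
  exact hwT (h2 (mem_sup_right (mem_zpowers w)))

/-- `O₂(C(a)) ≤ T` -/
theorem Q_le : o2 (centralizer ({a} : Set G)) ≤ T := by
  have h1 : o2 (centralizer ({a} : Set G)) ≤ normalizer (ln h : Set G) := C.bt.Q_le_NV 0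
  have h2 : IsPGroup 2 (T ⊔ o2 (centralizer ({a} : Set G)) : Subgroup G) :=
    IsPGroup.to_sup_of_normal_right' C.Tp (o2_isPGroup _) (C.Ta.trans (le_normalizer_o2 _))
  exact le_sup_right.trans (C.max h2 le_sup_left (sup_le C.TN h1))

theorem L_le : ln h ≤ T := by
  have h1 : ln h ≤ o2 (centralizer ({a} : Set G)) := C.bt.VQ 0
  exact h1.trans C.Q_le

theorem comm_a {t : G} (ht : t ∈ T) : t * a = a * t := mem_centralizer_singleton_iff.1 (C.Ta ht)

/-- `W_i` swaps the other two points -/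
theorem exists_W {i : Fin 3} {v w : G} (hv : v ∈ ln h) (hw : w ∈ ln h) (hvi : v ∉ pts a b i) (hwi : w ∉ pts a b i) :
    ∃ g ∈ W i, g * v * g⁻¹ = w := by
  obtain ⟨j, hj⟩ : ∃ j, v = dd a b j := hv.resolve_left fun e => hvi (by rw [e]; exact one_mem _)
  obtain ⟨l, hl⟩ : ∃ j, w = dd a b j := hw.resolve_left fun e => hwi (by rw [e]; exact one_mem _)
  have hji : j ≠ i := by rintro rfl; exact hvi (by rw [hj]; exact mem_zpowers _)
  have hli : l ≠ i := by rintro rfl; exact hwi (by rw [hl]; exact mem_zpowers _)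
  obtain ⟨g, hg, e⟩ := C.bt.sw i j l hji hli
  exact ⟨g, hg, by rw [hj, hl]; exact e⟩

theorem b_notin : b ∉ pts a b 0 := fun e => by
  rcases h.mem_pts.1 e with e | e
  · exact h.b1 e
  · exact h.ne (show b = a from e).symm

theorem ab_notin : a * b ∉ pts a b 0 := fun e => by
  rcases h.mem_pts.1 e with e | e
  · exact h.ab1 e
  · exact h.a_ab (show a * b = a from e).symm

/-- an element of `T` swapping `b` and `ab` -/
theorem exists_t : ∃ t ∈ T, t * b * t⁻¹ = a * b := by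
  obtain ⟨t, ht, e⟩ := C.exists_W (i := 0) C.bL C.abL C.b_notin C.ab_notin
  have h1 : W 0 ≤ o2 (centralizer ({a} : Set G)) := C.bt.W_le_Q 0
  exact ⟨t, C.Q_le (h1 ht), e⟩

/-- `T` acts as `1` or as the swap -/
theorem act_T {t : G} (ht : t ∈ T) : t * b * t⁻¹ = b ∨ t * b * t⁻¹ = a * b := by
  rcases C.mem_L (BTwo.conj_mem_of_normalizer (C.TN ht) C.bL) with e | e | e | e
  · exact absurd (conj_eq_one_iff.1 e) h.b1
  · exfalso
    have h1 : t * a * t⁻¹ = a := by rw [C.comm_a ht, mul_inv_cancel_right]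
    exact h.ne (mul_left_cancel (mul_right_cancel (h1.trans e.symm)))
  · exact Or.inl e
  · exact Or.inr e

/-- `Ω₁Z(C_T(L)) = L (Ω₁Z(T) ∩ C(X))` -/
theorem dec0 {u : G} (hu : u ∈ T) (hu2 : u * u = 1)
    (huT : ∀ s ∈ T, s ∈ centralizer (ln h : Set G) → s * u = u * s) :
    ∃ l ∈ ln h, ∃ c ∈ zc T, (∀ y ∈ XW W, y * c = c * y) ∧ u = l * c := by
  obtain ⟨t, ht, et⟩ := C.exists_t
  -- an involution commuting with `T`
  have key : ∀ z ∈ T, z * z = 1 → (∀ s ∈ T, s * z = z * s) →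
      ∃ l ∈ ln h, ∃ c ∈ zc T, (∀ y ∈ XW W, y * c = c * y) ∧ z = l * c := by
    intro z hz hz2 hzT
    obtain ⟨v, hv, c, hc1, hc2, e⟩ := C.dec z (mem_zc.2 ⟨hz, hzT, by rw [pow_two]; exact hz2⟩)
    have hvT := C.L_le hv
    have ec : c = v⁻¹ * z := by rw [e]; group
    have hcT : c ∈ T := by rw [ec]; exact mul_mem (inv_mem hvT) hz
    have hcc : c * c = 1 := by
      have h1 : v⁻¹ * c = c * v⁻¹ := hc2 _ (inv_mem hvT)
      have h2 : v⁻¹ = v := inv_eq_of_mul_eq_one_left (C.sqL hv)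
      calc c * c = v⁻¹ * z * c := by rw [← ec]
        _ = v⁻¹ * (v * c) * c := by rw [e]
        _ = v⁻¹ * v⁻¹ * v * v * c * c := by rw [h2]; rw [C.sqL hv]; group
        _ = v⁻¹ * v⁻¹ * (v * c * (v * c)) := by
          rw [h2] at h1
          rw [show v * c * (v * c) = v * (c * v) * c by group, ← h1]; group
        _ = 1 := by rw [← e, hz2, mul_one, h2, C.sqL hv]
    exact ⟨v, hv, c, mem_zc.2 ⟨hcT, hc2, by rw [pow_two]; exact hcc⟩, hc1, e⟩
  -- an element of `T₀` or of `t T₀`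
  have hall : ∀ z ∈ T, (∀ s ∈ T, s ∈ centralizer (ln h : Set G) → s * z = z * s) → t * z * t⁻¹ = z →
      ∀ s ∈ T, s * z = z * s := by
    intro z _ hz0 hzt s hs
    rcases C.act_T hs with e | e
    · exact hz0 s hs (C.mem_cen_L (C.comm_a hs) (mul_inv_eq_iff_eq_mul.1 e))
    · have h1 : t⁻¹ * s ∈ T := mul_mem (inv_mem ht) hs
      have h2 : t⁻¹ * s * b * (t⁻¹ * s)⁻¹ = b := by
        calc t⁻¹ * s * b * (t⁻¹ * s)⁻¹ = t⁻¹ * (s * b * s⁻¹) * t := by group
          _ = t⁻¹ * (t * b * t⁻¹) * t := by rw [e, et]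
          _ = b := by group
      have h3 := hz0 _ h1 (C.mem_cen_L (C.comm_a h1) (mul_inv_eq_iff_eq_mul.1 h2))
      have h4 : t * z = z * t := mul_inv_eq_iff_eq_mul.1 hzt
      calc s * z = t * (t⁻¹ * s * z) := by group
        _ = t * z * (t⁻¹ * s) := by rw [h3]; group
        _ = z * s := by rw [h4]; group
  rcases C.zt t ht u hu hu2 huT with e | e
  · exact key u hu hu2 (hall u hu huT e)
  · -- `b u` commutes with `T`
    have hub : u * b = b * u := by
      have h1 := huT b (C.L_le C.bL) (C.bt.V_le_cen C.bL)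
      exact h1.symm
    have hua : a * u = u * a := (C.comm_a hu).symm
    have hbu : b * u ∈ T := mul_mem (C.L_le C.bL) hu
    have hbu2 : b * u * (b * u) = 1 := by
      calc b * u * (b * u) = b * (u * b) * u := by group
        _ = b * b * (u * u) := by rw [hub]; group
        _ = 1 := by rw [C.sqL C.bL, hu2, one_mul]
    have h1 : ∀ s ∈ T, s ∈ centralizer (ln h : Set G) → s * (b * u) = b * u * s := by
      intro s hs hsL
      have h2 := mem_centralizer_iff.1 hsL b C.bL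
      rw [← mul_assoc, ← h2, mul_assoc, huT s hs hsL, mul_assoc]
    have h2 : t * (b * u) * t⁻¹ = b * u := by
      calc t * (b * u) * t⁻¹ = (t * b * t⁻¹) * (t * u * t⁻¹) := by group
        _ = a * b * (u * a) := by rw [et, e]
        _ = a * (b * u) * a := by group
        _ = a * (u * b) * a := by rw [hub]
        _ = a * u * (b * a) := by group
        _ = u * a * (a * b) := by rw [hua, h.comm]
        _ = u * (a * a) * b := by group
        _ = b * u := by rw [h.aa, mul_one, hub]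
    obtain ⟨l, hl, c, hc, hcX, e2⟩ := key _ hbu hbu2 (hall _ hbu h1 h2)
    refine ⟨b * l, mul_mem C.bL hl, c, hc, hcX, ?_⟩
    calc u = b * b * u := by rw [h.bb, one_mul]
      _ = b * (b * u) := by group
      _ = b * l * c := by rw [e2]; group

/-- `a` is not in `C(X)` -/
theorem a_notin : ¬ ∀ y ∈ XW W, y * a = a * y := fun e =>
  h.a1 (C.bt.cen_VX C.aL (mem_centralizer_iff.2 fun y hy => e y hy))

/-- the common output of (A) and (B) -/
def Out (_ : Cf h W T) (w : G) : Prop := w ∈ normalizer (T : Set G) ∧ w ∉ T ∧ w * w ∈ T ∧ w * a * w⁻¹ = a ∧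
  ∃ k ∈ zc T, k ≠ 1 ∧ (∀ y ∈ XW W, y * k = k * y) ∧ (w * b * w⁻¹ = b * k ∨ w * b * w⁻¹ = a * b * k)

/-- **(3)** -/
theorem three {w : G} (hw : C.Out w) : ∃ k ∈ zc T, k ≠ 1 ∧ (∀ y ∈ XW W, y * k = k * y) ∧
    ∃ g, g * k = k * g ∧ g * a * g⁻¹ = a * k ∧ g * b * g⁻¹ = b * k := by
  -- wlog `b^w = b k`
  obtain ⟨w, hwN, hwT, hw2, hwa, k, hk, hk1, hkX, hwb⟩ : ∃ w ∈ normalizer (T : Set G), w ∉ T ∧ w * w ∈ T ∧
      w * a * w⁻¹ = a ∧ ∃ k ∈ zc T, k ≠ 1 ∧ (∀ y ∈ XW W, y * k = k * y) ∧ w * b * w⁻¹ = b * k := by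
    obtain ⟨hwN, hwT, hw2, hwa, k, hk, hk1, hkX, hwb | hwb⟩ := hw
    · exact ⟨w, hwN, hwT, hw2, hwa, k, hk, hk1, hkX, hwb⟩
    · obtain ⟨t, ht, et⟩ := C.exists_t
      have htN : t ∈ normalizer (T : Set G) := le_normalizer ht
      refine ⟨t * w, mul_mem htN hwN, fun e => hwT ?_, ?_, ?_, k, hk, hk1, hkX, ?_⟩
      · have := mul_mem (inv_mem ht) e
        rwa [inv_mul_cancel_left] at this
      · have h1 : w * t * w⁻¹ ∈ T := (mem_normalizer_iff.1 hwN t).1 ht
        have e : t * w * (t * w) = t * (w * t * w⁻¹) * (w * w) := by group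
        rw [e]; exact mul_mem (mul_mem ht h1) hw2
      · calc t * w * a * (t * w)⁻¹ = t * (w * a * w⁻¹) * t⁻¹ := by group
          _ = a := by rw [hwa, C.comm_a ht, mul_inv_cancel_right]
      · have h1 : t * k = k * t := (mem_zc.1 hk).2.1 t ht
        calc t * w * b * (t * w)⁻¹ = t * (w * b * w⁻¹) * t⁻¹ := by group
          _ = t * (a * b * k) * t⁻¹ := by rw [hwb]
          _ = (t * a) * b * (k * t⁻¹) := by group
          _ = (a * t) * b * (k * t⁻¹) := by rw [C.comm_a ht]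
          _ = a * (t * b * t⁻¹) * (t * k * t⁻¹) := by group
          _ = a * (a * b) * k := by rw [et, h1, mul_inv_cancel_right]
          _ = a * a * b * k := by group
          _ = b * k := by rw [h.aa, one_mul]
  have hkT := (mem_zc.1 hk).2.1
  have hkk : k * k = 1 := by rw [← pow_two]; exact (mem_zc.1 hk).2.2
  have hkm : k ∈ T := (mem_zc.1 hk).1
  have hka : a * k = k * a := hkT a (C.L_le C.aL)
  have hkb : b * k = k * b := hkT b (C.L_le C.bL)
  have hk' : w * k * w⁻¹ ∈ T := (mem_normalizer_iff.1 hwN k).1 hkm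
  -- `k^w`
  have hkw : w * k * w⁻¹ = k ∨ w * k * w⁻¹ = k * a := by
    have h1 : w * w * b * (w * w)⁻¹ = b * (k * (w * k * w⁻¹)) := by
      calc w * w * b * (w * w)⁻¹ = w * (w * b * w⁻¹) * w⁻¹ := by group
        _ = w * (b * k) * w⁻¹ := by rw [hwb]
        _ = (w * b * w⁻¹) * (w * k * w⁻¹) := by group
        _ = _ := by rw [hwb]; group
    rcases C.act_T hw2 with e | e
    · left
      rw [h1] at e
      have e1 : k * (w * k * w⁻¹) = 1 := mul_left_cancel (e.trans (mul_one b).symm)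
      calc w * k * w⁻¹ = k * k * (w * k * w⁻¹) := by rw [hkk, one_mul]
        _ = k * (k * (w * k * w⁻¹)) := by group
        _ = k := by rw [e1, mul_one]
    · right
      rw [h1, h.comm] at e
      have e1 : k * (w * k * w⁻¹) = a := mul_left_cancel e
      calc w * k * w⁻¹ = k * k * (w * k * w⁻¹) := by rw [hkk, one_mul]
        _ = k * (k * (w * k * w⁻¹)) := by group
        _ = k * a := by rw [e1]
  -- the transposition `a ↔ b`
  obtain ⟨y, hy, ya, yb⟩ : ∃ y ∈ XW W, y * a * y⁻¹ = b ∧ y * b * y⁻¹ = a := by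
    obtain ⟨y, hy, e1, e2⟩ := C.bt.trans_X (i := 0) (j := 1) (k := 1) (l := 0) (by decide) (by decide)
    exact ⟨y, hy, e1, e2⟩
  have hyk := hkX y hy
  have hyk' : y * k * y⁻¹ = k := by rw [hyk, mul_inv_cancel_right]
  rcases hkw with hkw | hkw
  · -- `k^w = k`
    have e1 : w⁻¹ * k * w = k := by
      calc w⁻¹ * k * w = w⁻¹ * (w * k * w⁻¹) * w := by rw [hkw]
        _ = k := by group
    have e2 : w⁻¹ * b * w = b * k := by
      calc w⁻¹ * b * w = w⁻¹ * (b * k) * w * (w⁻¹ * k * w)⁻¹ := by group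
        _ = w⁻¹ * (w * b * w⁻¹) * w * k⁻¹ := by rw [hwb, e1]
        _ = b * k⁻¹ := by group
        _ = b * k := by rw [inv_eq_of_mul_eq_one_left hkk]
    have e3 : w⁻¹ * a * w = a := by
      calc w⁻¹ * a * w = w⁻¹ * (w * a * w⁻¹) * w := by rw [hwa]
        _ = a := by group
    refine ⟨k, hk, hk1, hkX, y * (w * y * w⁻¹), ?_, ?_, ?_⟩
    · have f1 : w * y * w⁻¹ * k = k * (w * y * w⁻¹) := by
        calc w * y * w⁻¹ * k = w * (y * (w⁻¹ * k * w)) * w⁻¹ := by group
          _ = w * (k * y) * w⁻¹ := by rw [e1, hyk]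
          _ = (w * k * w⁻¹) * (w * y * w⁻¹) := by group
          _ = _ := by rw [hkw]
      rw [mul_assoc, f1, ← mul_assoc, hyk, mul_assoc]
    · calc y * (w * y * w⁻¹) * a * (y * (w * y * w⁻¹))⁻¹
          = y * (w * (y * (w⁻¹ * a * w) * y⁻¹) * w⁻¹) * y⁻¹ := by group
        _ = y * (b * k) * y⁻¹ := by rw [e3, ya, hwb]
        _ = (y * b * y⁻¹) * (y * k * y⁻¹) := by group
        _ = a * k := by rw [yb, hyk']
    · calc y * (w * y * w⁻¹) * b * (y * (w * y * w⁻¹))⁻¹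
          = y * (w * (y * (w⁻¹ * b * w) * y⁻¹) * w⁻¹) * y⁻¹ := by group
        _ = y * (w * ((y * b * y⁻¹) * (y * k * y⁻¹)) * w⁻¹) * y⁻¹ := by rw [e2]; group
        _ = y * ((w * a * w⁻¹) * (w * k * w⁻¹)) * y⁻¹ := by rw [yb, hyk']; group
        _ = (y * a * y⁻¹) * (y * k * y⁻¹) := by rw [hwa, hkw]; group
        _ = b * k := by rw [ya, hyk']
  · -- `k^w = k a`: `T ⟨w⟩` normalises a conjugate of `L`
    exfalso
    have e3 : w⁻¹ * a * w = a := by
      calc w⁻¹ * a * w = w⁻¹ * (w * a * w⁻¹) * w := by rw [hwa]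
        _ = a := by group
    have e1 : w⁻¹ * k * w = k * a := by
      calc w⁻¹ * k * w = w⁻¹ * (k * a) * w * (w⁻¹ * a * w)⁻¹ := by group
        _ = w⁻¹ * (w * k * w⁻¹) * w * a⁻¹ := by rw [hkw, e3]
        _ = k * a⁻¹ := by group
        _ = k * a := by rw [inv_eq_of_mul_eq_one_left h.aa]
    have e2 : w⁻¹ * b * w = b * (k * a) := by
      have f : (k * a)⁻¹ = k * a := inv_eq_of_mul_eq_one_left (by
        calc k * a * (k * a) = k * (a * k) * a := by group
          _ = k * k * (a * a) := by rw [hka]; group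
          _ = 1 := by rw [hkk, h.aa, mul_one])
      calc w⁻¹ * b * w = w⁻¹ * (b * k) * w * (w⁻¹ * k * w)⁻¹ := by group
        _ = w⁻¹ * (w * b * w⁻¹) * w * (k * a)⁻¹ := by rw [hwb, e1]
        _ = b * (k * a) := by rw [f]; group
    obtain ⟨d, hd⟩ : ∃ d, d = y * (w * y * w⁻¹) := ⟨_, rfl⟩
    have da : d * a * d⁻¹ = a * k := by
      rw [hd]
      calc y * (w * y * w⁻¹) * a * (y * (w * y * w⁻¹))⁻¹
          = y * (w * (y * (w⁻¹ * a * w) * y⁻¹) * w⁻¹) * y⁻¹ := by group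
        _ = y * (b * k) * y⁻¹ := by rw [e3, ya, hwb]
        _ = (y * b * y⁻¹) * (y * k * y⁻¹) := by group
        _ = a * k := by rw [yb, hyk']
    have db : d * b * d⁻¹ = a := by
      rw [hd]
      calc y * (w * y * w⁻¹) * b * (y * (w * y * w⁻¹))⁻¹
          = y * (w * (y * (w⁻¹ * b * w) * y⁻¹) * w⁻¹) * y⁻¹ := by group
        _ = y * (w * ((y * b * y⁻¹) * (y * k * y⁻¹) * (y * a * y⁻¹)) * w⁻¹) * y⁻¹ := by rw [e2]; group
        _ = y * ((w * a * w⁻¹) * (w * k * w⁻¹) * (w * b * w⁻¹)) * y⁻¹ := by rw [yb, hyk', ya]; group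
        _ = y * (a * (k * a) * (b * k)) * y⁻¹ := by rw [hwa, hkw, hwb]
        _ = y * (a * (a * k) * (k * b)) * y⁻¹ := by rw [← hka, hkb]
        _ = y * ((a * a) * (k * k) * b) * y⁻¹ := by group
        _ = y * b * y⁻¹ := by rw [h.aa, hkk, one_mul, one_mul]
        _ = a := yb
    -- `R = T ⟨w⟩`
    have hR := sup_zp C.Tp hwN hw2
    have hRd : cj d⁻¹ (T ⊔ zpowers w) ≤ normalizer (ln h : Set G) := by
      rintro _ ⟨r, hr, rfl⟩
      change d⁻¹ * r * d⁻¹⁻¹ ∈ _
      have hr1 : (r * a * r⁻¹ = a) ∧ (r * k * r⁻¹ = k ∨ r * k * r⁻¹ = k * a) := by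
        let H : Subgroup G :=
          { carrier := {r | r * a * r⁻¹ = a ∧ (r * k * r⁻¹ = k ∨ r * k * r⁻¹ = k * a)}
            one_mem' := ⟨by group, Or.inl (by group)⟩
            mul_mem' := by
              rintro r s ⟨hr1, hr2⟩ ⟨hs1, hs2⟩
              have f1 : r * s * a * (r * s)⁻¹ = a := by
                calc r * s * a * (r * s)⁻¹ = r * (s * a * s⁻¹) * r⁻¹ := by group
                  _ = a := by rw [hs1, hr1]
              refine ⟨f1, ?_⟩
              have f2 : r * s * k * (r * s)⁻¹ = r * (s * k * s⁻¹) * r⁻¹ := by group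
              rw [f2]
              rcases hs2 with e | e
              · rw [e]; exact hr2
              · have f3 : r * (k * a) * r⁻¹ = r * k * r⁻¹ * (r * a * r⁻¹) := by group
                rw [e, f3, hr1]
                rcases hr2 with e | e
                · rw [e]; exact Or.inr rfl
                · rw [e, mul_assoc, h.aa, mul_one]; exact Or.inl rfl
            inv_mem' := by
              rintro r ⟨hr1, hr2⟩
              have f1 : r⁻¹ * a * r⁻¹⁻¹ = a := by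
                calc r⁻¹ * a * r⁻¹⁻¹ = r⁻¹ * (r * a * r⁻¹) * r := by rw [hr1]; group
                  _ = a := by group
              refine ⟨f1, ?_⟩
              rcases hr2 with e | e
              · left
                calc r⁻¹ * k * r⁻¹⁻¹ = r⁻¹ * (r * k * r⁻¹) * r := by rw [e]; group
                  _ = k := by group
              · right
                have f4 : r⁻¹ * (k * a) * r⁻¹⁻¹ = k := by
                  calc r⁻¹ * (k * a) * r⁻¹⁻¹ = r⁻¹ * (r * k * r⁻¹) * r := by rw [e]; group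
                    _ = k := by group
                calc r⁻¹ * k * r⁻¹⁻¹ = r⁻¹ * (k * a) * r⁻¹⁻¹ * (r⁻¹ * a * r⁻¹⁻¹)⁻¹ := by group
                  _ = k * a⁻¹ := by rw [f4, f1]
                  _ = k * a := by rw [inv_eq_of_mul_eq_one_left h.aa] }
        have hle : T ⊔ zpowers w ≤ H := by
          refine sup_le (fun t ht => ⟨?_, Or.inl ?_⟩) ?_
          · rw [C.comm_a ht, mul_inv_cancel_right]
          · rw [hkT t ht, mul_inv_cancel_right]
          · rw [zpowers_le]; exact ⟨hwa, Or.inr hkw⟩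
        exact hle hr
      have db' : d⁻¹ * a * d = b := by rw [← db]; group
      have dk' : d⁻¹ * k * d = a * b := by
        have : k = a * (a * k) := by rw [← mul_assoc, h.aa, one_mul]
        calc d⁻¹ * k * d = d⁻¹ * (a * (a * k)) * d := by rw [← this]
          _ = (d⁻¹ * a * d) * (d⁻¹ * (a * k) * d) := by group
          _ = b * (d⁻¹ * (d * a * d⁻¹) * d) := by rw [db', da]
          _ = b * a := by group
          _ = a * b := h.comm.symm
      have dka : d⁻¹ * (k * a) * d = a := by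
        calc d⁻¹ * (k * a) * d = (d⁻¹ * k * d) * (d⁻¹ * a * d) := by group
          _ = a * b * b := by rw [dk', db']
          _ = a := by rw [mul_assoc, h.bb, mul_one]
      have dak : d⁻¹ * (a * k) * d = a := by rw [hka]; exact dka
      -- `a = (a k)^{d⁻¹}`, `b = a^{d⁻¹}`
      refine C.mem_N ?_ ?_
      · have f : d⁻¹ * r * d⁻¹⁻¹ * a * (d⁻¹ * r * d⁻¹⁻¹)⁻¹ = d⁻¹ * ((r * a * r⁻¹) * (r * k * r⁻¹)) * d := by
          calc d⁻¹ * r * d⁻¹⁻¹ * a * (d⁻¹ * r * d⁻¹⁻¹)⁻¹ = d⁻¹ * (r * (d * a * d⁻¹) * r⁻¹) * d := by group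
            _ = _ := by rw [da]; group
        rw [f, hr1.1]
        rcases hr1.2 with e | e
        · rw [e, dak]; exact C.aL
        · rw [e]
          have f2 : d⁻¹ * (a * (k * a)) * d = (d⁻¹ * a * d) * (d⁻¹ * (k * a) * d) := by group
          rw [f2, db', dka, ← h.comm]; exact C.abL
      · have f : d⁻¹ * r * d⁻¹⁻¹ * b * (d⁻¹ * r * d⁻¹⁻¹)⁻¹ = d⁻¹ * (r * a * r⁻¹) * d := by
          calc d⁻¹ * r * d⁻¹⁻¹ * b * (d⁻¹ * r * d⁻¹⁻¹)⁻¹ = d⁻¹ * (r * (d * b * d⁻¹) * r⁻¹) * d := by group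
            _ = _ := by rw [db]
        rw [f, hr1.1, db']; exact C.bL
    have hRp : IsPGroup 2 (cj d⁻¹ (T ⊔ zpowers w) : Subgroup G) := hR.map _
    have h2 := Nat.le_of_dvd Nat.card_pos (HT.card_dvd_card C.TN C.syl hRp hRd)
    rw [BTwo.card_cj] at h2
    have h3 : T = T ⊔ zpowers w := eq_of_le_of_card_ge le_sup_left h2
    exact hwT (h3.symm.le (mem_sup_right (mem_zpowers w)))

/-- `O₂(C(x)) ∩ N(L)` centralises `L`, for `x ∈ C(X)` -/
theorem cen_O {x : G} (hxX : ∀ y ∈ XW W, y * x = x * y) {g : G}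
    (hg : g ∈ o2 (centralizer ({x} : Set G))) (hgN : g ∈ normalizer (ln h : Set G)) :
    g ∈ centralizer (ln h : Set G) := by
  refine C.bt.cen_of (K := o2 (centralizer ({x} : Set G)))
    (fun y hy => le_normalizer_o2 _ (mem_centralizer_singleton_iff.2 (hxX y hy))) (fun g hg _ => ?_) hg hgN
  obtain ⟨n, e⟩ := (o2_isPGroup (centralizer ({x} : Set G))) ⟨g, hg⟩
  refine ⟨n, ?_⟩
  have e1 : g ^ 2 ^ n = 1 := by simpa using congrArg Subtype.val e
  rw [e1]; exact one_mem _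

/-- **(B)** -/
theorem caseB {x : G} (hTx : ∀ t ∈ T, t * x = x * t) (hxX : ∀ y ∈ XW W, y * x = x * y)
    (hO : ¬ o2 (centralizer ({x} : Set G)) ≤ T) : ∃ w, C.Out w := by
  obtain ⟨O, hOe⟩ : ∃ O, O = o2 (centralizer ({x} : Set G)) := ⟨_, rfl⟩
  rw [← hOe] at hO
  have hTO : T ≤ normalizer (O : Set G) := by
    rw [hOe]
    exact fun t ht => le_normalizer_o2 _ (mem_centralizer_singleton_iff.2 (hTx t ht))
  have hOp : IsPGroup 2 O := by rw [hOe]; exact o2_isPGroup _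
  have hp : IsPGroup 2 (T ⊔ O : Subgroup G) := IsPGroup.to_sup_of_normal_right' C.Tp hOp hTO
  have hlt : T < T ⊔ O := lt_of_le_of_ne le_sup_left fun e => hO (le_sup_right.trans e.symm.le)
  obtain ⟨g, hg, hgN, hgT, hg2⟩ := MinSimple.Choice97.exists_normalizing hp hlt
  obtain ⟨s, hs, w, hw, rfl⟩ := mem_sup_nrm hTO hg
  have hsN : s ∈ normalizer (T : Set G) := le_normalizer hs
  have hwN : w ∈ normalizer (T : Set G) := by
    have := mul_mem (inv_mem hsN) hgN
    rwa [inv_mul_cancel_left] at this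
  have hwT : w ∉ T := fun e => hgT (mul_mem hs e)
  have hw2 : w * w ∈ T := by
    have h1 : w * s * w⁻¹ ∈ T := (mem_normalizer_iff.1 hwN s).1 hs
    have h2 : s * (w * s * w⁻¹) * (w * w) ∈ T := by
      have e : s * (w * s * w⁻¹) * (w * w) = s * w * (s * w) := by group
      rw [e]; exact hg2
    have h3 := mul_mem (inv_mem (mul_mem hs h1)) h2
    rwa [inv_mul_cancel_left] at h3
  have hO0 : ∀ y ∈ O, y ∈ T → y ∈ centralizer (ln h : Set G) := fun y hy hyT =>
    C.cen_O hxX (by rw [← hOe]; exact hy) (C.TN hyT)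
  -- `[w, t] ∈ O ∩ T`
  have hcm : ∀ t ∈ T, w * t * w⁻¹ * t⁻¹ ∈ T ∧ w * t * w⁻¹ * t⁻¹ ∈ centralizer (ln h : Set G) := by
    intro t ht
    have h1 : w * t * w⁻¹ * t⁻¹ ∈ T := mul_mem ((mem_normalizer_iff.1 hwN t).1 ht) (inv_mem ht)
    refine ⟨h1, hO0 _ ?_ h1⟩
    have e : w * t * w⁻¹ * t⁻¹ = w * (t * w⁻¹ * t⁻¹) := by group
    rw [e]
    exact mul_mem hw (BTwo.conj_mem_of_normalizer (hTO ht) (inv_mem hw))
  have hwiN := inv_mem hwN
  have hcm' : ∀ t ∈ T, t ∈ centralizer (ln h : Set G) → w⁻¹ * t * w ∈ T ∧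
      w⁻¹ * t * w ∈ centralizer (ln h : Set G) := by
    intro t ht htL
    have h0 : w⁻¹ * t * w ∈ T := by
      have := (mem_normalizer_iff.1 hwiN t).1 ht
      rwa [inv_inv] at this
    refine ⟨h0, ?_⟩
    have h1 := (hcm _ h0).2
    have e : w⁻¹ * t * w = (w * (w⁻¹ * t * w) * w⁻¹ * (w⁻¹ * t * w)⁻¹)⁻¹ * t := by group
    rw [e]
    exact mul_mem (inv_mem h1) htL
  -- the conjugates of `L`
  have hLw : ∀ v ∈ ln h, w * v * w⁻¹ ∈ T ∧ w * v * w⁻¹ * (w * v * w⁻¹) = 1 ∧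
      ∀ s ∈ T, s ∈ centralizer (ln h : Set G) → s * (w * v * w⁻¹) = w * v * w⁻¹ * s := by
    intro v hv
    refine ⟨(mem_normalizer_iff.1 hwN v).1 (C.L_le hv), ?_, fun s hs hsL => ?_⟩
    · calc w * v * w⁻¹ * (w * v * w⁻¹) = w * (v * v) * w⁻¹ := by group
        _ = 1 := by rw [C.sqL hv]; group
    · have h1 := mem_centralizer_iff.1 (hcm' s hs hsL).2 v hv
      calc s * (w * v * w⁻¹) = w * (w⁻¹ * s * w * v) * w⁻¹ := by group
        _ = w * (v * (w⁻¹ * s * w)) * w⁻¹ := by rw [h1]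
        _ = w * v * w⁻¹ * s := by group
  obtain ⟨u, hu⟩ : ∃ u, u = w * b * w⁻¹ := ⟨_, rfl⟩
  obtain ⟨huT, hu2, hu0⟩ := hLw b C.bL
  rw [← hu] at huT hu2 hu0
  obtain ⟨t, ht, et⟩ := C.exists_t
  -- `a^w = a`
  have hwa : w * a * w⁻¹ = a := by
    obtain ⟨y, hy⟩ : ∃ y, y = w * t * w⁻¹ * t⁻¹ := ⟨_, rfl⟩
    obtain ⟨hyT, hyL⟩ := hcm t ht
    rw [← hy] at hyT hyL
    have e1 : w * (a * b) * w⁻¹ = y * (t * u * t⁻¹) * y⁻¹ := by
      calc w * (a * b) * w⁻¹ = w * (t * b * t⁻¹) * w⁻¹ := by rw [et]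
        _ = _ := by rw [hy, hu]; group
    have e2 : w * (a * b) * w⁻¹ = w * a * w⁻¹ * u := by rw [hu]; group
    have hyu : y * u = u * y := hu0 y hyT hyL
    have hya : y * a = a * y := C.comm_a hyT
    rcases C.zt t ht u huT hu2 hu0 with e | e
    · exfalso
      have e3 : y * u * y⁻¹ = u := by rw [hyu, mul_inv_cancel_right]
      rw [e, e3, e2] at e1
      have e4 : w * a * w⁻¹ = 1 := mul_right_cancel (e1.trans (one_mul u).symm)
      exact h.a1 (conj_eq_one_iff.1 e4)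
    · have e3 : y * (u * a) * y⁻¹ = u * a := by
        calc y * (u * a) * y⁻¹ = (y * u) * a * y⁻¹ := by group
          _ = u * (y * a) * y⁻¹ := by rw [hyu]; group
          _ = u * a := by rw [hya]; group
      rw [e, e3, e2, ← C.comm_a huT |>.symm] at e1
      exact mul_right_cancel e1
  refine ⟨w, hwN, hwT, hw2, hwa, ?_⟩
  obtain ⟨l, hl, c, hc, hcX, e⟩ := C.dec0 huT hu2 hu0
  have hcT := (mem_zc.1 hc).2.1
  have key : l = b ∨ l = a * b := by
    have hno : (∀ s ∈ T, s * u = u * s) → False := by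
      intro hall
      have h1 : w * t * w⁻¹ ∈ T := (mem_normalizer_iff.1 hwN t).1 ht
      have h2 := hall _ h1
      have h3 : t * b = b * t := by
        calc t * b = w⁻¹ * (w * t * w⁻¹ * u) * w := by rw [hu]; group
          _ = w⁻¹ * (u * (w * t * w⁻¹)) * w := by rw [h2]
          _ = b * t := by rw [hu]; group
      have h4 : b = a * b := by rw [← et, h3, mul_inv_cancel_right]
      exact h.b_ab h4
    rcases C.mem_L hl with e1 | e1 | e1 | e1
    · exfalso; apply hno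
      intro s hs
      rw [e, e1, one_mul]; exact hcT s hs
    · exfalso; apply hno
      intro s hs
      rw [e, e1, ← mul_assoc, C.comm_a hs, mul_assoc, hcT s hs, mul_assoc]
    · exact Or.inl e1
    · exact Or.inr e1
  refine ⟨c, hc, fun hc1 => ?_, hcX, ?_⟩
  · refine C.not_mem_N hwN hw2 hwT (C.mem_N (by rw [hwa]; exact C.aL) ?_)
    rw [← hu, e, hc1, mul_one]; exact hl
  · rw [← hu, e]
    rcases key with e1 | e1
    · left; rw [e1]
    · right; rw [e1]


/-- `[T, L] ≤ ⟨a⟩` -/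
theorem TL {t v : G} (ht : t ∈ T) (hv : v ∈ ln h) : t * v * t⁻¹ = v ∨ t * v * t⁻¹ = a * v := by
  have h1 : t * a * t⁻¹ = a := by rw [C.comm_a ht, mul_inv_cancel_right]
  rcases C.mem_L hv with rfl | rfl | rfl | rfl
  · left; group
  · exact Or.inl h1
  · exact C.act_T ht
  · have h2 : t * (a * b) * t⁻¹ = t * a * t⁻¹ * (t * b * t⁻¹) := by group
    rw [h2, h1]
    rcases C.act_T ht with e | e
    · left; rw [e]
    · right; rw [e]

/-- `O₂(C(r)) ∩ C(L) ≤ T` for every point `r` -/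
theorem QC_le (j : Fin 3) {g : G} (hg : g ∈ Qd a b j) (hgL : g ∈ centralizer (ln h : Set G)) : g ∈ T := by
  have h1 : (Qd a b j ⊓ centralizer (ln h : Set G) : Subgroup G) ≤ o2 (centralizer (ln h : Set G)) := by
    refine le_o2 inf_le_right ((o2_isPGroup _).to_le (inf_le_left : _ ≤ Qd a b j)) fun y hy => ?_
    refine BTwo.mem_normalizer_of_conj fun z hz => ?_
    have hy1 : y ∈ centralizer ({dd a b j} : Set G) := C.bt.cen_le_C j hy
    exact mem_inf.2 ⟨BTwo.conj_mem_of_normalizer (le_normalizer_o2 _ hy1) hz.1,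
      mul_mem (mul_mem hy hz.2) (inv_mem hy)⟩
  have h2 : o2 (centralizer (ln h : Set G)) ≤ o2 (normalizer (ln h : Set G)) :=
    o2_le_o2 (centralizer_le_normalizer _) (BTwo.normalizer_le_normalizer_centralizer _)
  exact o2_le_of_sylow C.Tp C.syl (h2 (h1 (mem_inf.2 ⟨hg, hgL⟩)))

/-- **(A)** -/
theorem caseA {T' : Subgroup G} (hT' : IsPGroup 2 T') (hlt : T < T') (hTa' : T' ≤ centralizer ({a} : Set G))
    {x : G} (hx : x ∈ zc T') (hx1 : x ≠ 1) (hxX : ∀ y ∈ XW W, y * x = x * y)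
    (hO : o2 (centralizer ({x} : Set G)) ≤ T) : ∃ w, C.Out w := by
  obtain ⟨w, hwT', hwN, hwT, hw2⟩ := MinSimple.Choice97.exists_normalizing hT' hlt
  have hxT' := (mem_zc.1 hx).2.1
  have hx2 : x ^ 2 = 1 := (mem_zc.1 hx).2.2
  have hwa : w * a = a * w := mem_centralizer_singleton_iff.1 (hTa' hwT')
  have hwa' : w * a * w⁻¹ = a := by rw [hwa, mul_inv_cancel_right]
  have hwx : w * x = x * w := hxT' w hwT'
  obtain ⟨O, hOe⟩ : ∃ O, O = o2 (centralizer ({x} : Set G)) := ⟨_, rfl⟩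
  rw [← hOe] at hO
  have hxC : ∀ {g : G}, g * x = x * g → g ∈ normalizer (O : Set G) := fun {g} hg => by
    rw [hOe]; exact le_normalizer_o2 _ (mem_centralizer_singleton_iff.2 hg)
  have hOp : IsPGroup 2 O := by rw [hOe]; exact o2_isPGroup _
  have hOL : O ≤ centralizer (ln h : Set G) := fun g hg =>
    C.cen_O hxX (by rw [← hOe]; exact hg) (C.TN (hO hg))
  have hTx : ∀ t ∈ T, t * x = x * t := fun t ht => hxT' t (hlt.le ht)
  have hLO : ln h ≤ O := by
    intro v hv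
    rw [hOe]
    refine MinSimple.Basic.char2_centralizer C.char2 hx2 hx1 (mem_inf.2
      ⟨mem_centralizer_singleton_iff.2 (hTx v (C.L_le hv)), mem_centralizer_iff.2 fun g hg => ?_⟩)
    rw [← hOe] at hg
    exact (mem_centralizer_iff.1 (hOL hg) v hv).symm
  have hwO := hxC hwx
  have hV'O : ∀ v ∈ ln h, w * v * w⁻¹ ∈ O := fun v hv => BTwo.conj_mem_of_normalizer hwO (hLO hv)
  have hV'c : ∀ v ∈ ln h, ∀ g ∈ O, g * (w * v * w⁻¹) = w * v * w⁻¹ * g := by
    intro v hv g hg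
    have h1 : w⁻¹ * g * w ∈ O := by
      have := BTwo.conj_mem_of_normalizer (inv_mem hwO) hg
      rwa [inv_inv] at this
    have h2 := mem_centralizer_iff.1 (hOL h1) v hv
    calc g * (w * v * w⁻¹) = w * (w⁻¹ * g * w * v) * w⁻¹ := by group
      _ = w * (v * (w⁻¹ * g * w)) * w⁻¹ := by rw [h2]
      _ = w * v * w⁻¹ * g := by group
  -- `[T, V'] ≤ ⟨a⟩`
  have hTV : ∀ v ∈ ln h, ∀ t ∈ T, t * (w * v * w⁻¹) * t⁻¹ = w * v * w⁻¹ ∨
      t * (w * v * w⁻¹) * t⁻¹ = a * (w * v * w⁻¹) := by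
    intro v hv t ht
    have h1 : w⁻¹ * t * w ∈ T := by
      have := (mem_normalizer_iff.1 (inv_mem hwN) t).1 ht
      rwa [inv_inv] at this
    have h2 : t * (w * v * w⁻¹) * t⁻¹ = w * ((w⁻¹ * t * w) * v * (w⁻¹ * t * w)⁻¹) * w⁻¹ := by group
    rw [h2]
    rcases C.TL h1 hv with e | e
    · left; rw [e]
    · right
      rw [e]
      calc w * (a * v) * w⁻¹ = (w * a * w⁻¹) * (w * v * w⁻¹) := by group
        _ = _ := by rw [hwa']
  -- `x ∈ Z(Q_j)`
  have hxQ0 : x ∈ Qd a b 0 := by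
    exact MinSimple.Basic.char2_centralizer C.char2 (by rw [pow_two]; exact h.aa) h.a1 (mem_inf.2
      ⟨hTa' (mem_zc.1 hx).1, mem_centralizer_iff.2 fun g hg => hTx g (C.Q_le hg)⟩)
  have hxQ0c : ∀ g ∈ Qd a b 0, g * x = x * g := by
    intro g hg
    exact hTx g (C.Q_le hg)
  have hxQ : ∀ j, x ∈ Qd a b j ∧ ∀ g ∈ Qd a b j, g * x = x * g := by
    intro j
    obtain ⟨e, he, ej⟩ := C.bt.trans_X_one 0 j
    have hex : e * x * e⁻¹ = x := by rw [hxX e he, mul_inv_cancel_right]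
    have hQ : cj e (Qd a b 0) = Qd a b j := by
      show cj e (O2 (centralizer ({dd a b 0} : Set G))) = _
      rw [BTwo.cj_O2]
      show O2 _ = O2 _
      congr 1
      ext g
      rw [BTwo.mem_cj, mem_centralizer_singleton_iff, mem_centralizer_singleton_iff, ← ej]
      constructor
      · intro h1
        calc g * (e * dd a b 0 * e⁻¹) = e * (e⁻¹ * g * e * dd a b 0) * e⁻¹ := by group
          _ = e * (dd a b 0 * (e⁻¹ * g * e)) * e⁻¹ := by rw [h1]
          _ = e * dd a b 0 * e⁻¹ * g := by group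
      · intro h1
        calc e⁻¹ * g * e * dd a b 0 = e⁻¹ * (g * (e * dd a b 0 * e⁻¹)) * e := by group
          _ = e⁻¹ * (e * dd a b 0 * e⁻¹ * g) * e := by rw [h1]
          _ = dd a b 0 * (e⁻¹ * g * e) := by group
    refine ⟨?_, fun g hg => ?_⟩
    · rw [← hQ, ← hex]; exact BTwo.conj_mem_cj hxQ0
    · rw [← hQ] at hg
      obtain ⟨g', hg', rfl⟩ := hg
      change e * g' * e⁻¹ * x = x * (e * g' * e⁻¹)
      have h1 := hxQ0c g' hg'
      calc e * g' * e⁻¹ * x = e * g' * e⁻¹ * (e * x * e⁻¹) := by rw [hex]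
        _ = e * (g' * x) * e⁻¹ := by group
        _ = e * (x * g') * e⁻¹ := by rw [h1]
        _ = (e * x * e⁻¹) * (e * g' * e⁻¹) := by group
        _ = x * (e * g' * e⁻¹) := by rw [hex]
  -- `V' ≤ Q_j`
  have hVQ : ∀ j : Fin 3, j ≠ 0 → ∀ v ∈ ln h, w * v * w⁻¹ ∈ Qd a b j := by
    intro j hj
    obtain ⟨H, hH⟩ : ∃ H, H = centralizer ({dd a b j} : Set G) := ⟨_, rfl⟩
    have hHQ : H ≤ normalizer (Qd a b j : Set G) := by rw [hH]; exact le_normalizer_o2 _
    have hV'H : ∀ v ∈ ln h, w * v * w⁻¹ ∈ H := by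
      intro v hv
      rw [hH, mem_centralizer_singleton_iff]
      exact (hV'c v hv _ (hLO (h.dd_mem j))).symm
    have haQ : ∃ g ∈ Qd a b j, g * a ≠ a * g := by
      have h1 : (0 : Fin 3) ≠ j := Ne.symm hj
      obtain ⟨l, hl1, hl2⟩ : ∃ l : Fin 3, l ≠ j ∧ l ≠ 0 := by
        have : ∀ j : Fin 3, ∃ l : Fin 3, l ≠ j ∧ l ≠ 0 := by decide
        exact this j
      obtain ⟨g, hg, e⟩ := C.bt.sw j 0 l h1 hl1
      refine ⟨g, C.bt.W_le_Q j hg, fun e1 => hl2 ?_⟩
      have e2 : g * dd a b 0 * g⁻¹ = dd a b 0 := by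
        show g * a * g⁻¹ = a
        rw [e1, mul_inv_cancel_right]
      exact h.dd_inj (e.symm.trans e2)
    -- `V'` commutes with the `x^q`
    have hcom : ∀ v ∈ ln h, ∀ q ∈ H, (w * v * w⁻¹) * (q * x * q⁻¹) = q * x * q⁻¹ * (w * v * w⁻¹) := by
      intro v hv q hq
      obtain ⟨y, hy⟩ : ∃ y, y = q * x * q⁻¹ := ⟨_, rfl⟩
      obtain ⟨v', hv'⟩ : ∃ v', v' = w * v * w⁻¹ := ⟨_, rfl⟩
      rw [← hy, ← hv']
      have hyQ : y ∈ Qd a b j := by
        rw [hy]; exact BTwo.conj_mem_of_normalizer (hHQ hq) (hxQ j).1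
      have hyc : ∀ g ∈ Qd a b j, g * y = y * g := by
        intro g hg
        have h1 : q⁻¹ * g * q ∈ Qd a b j := by
          have := BTwo.conj_mem_of_normalizer (inv_mem (hHQ hq)) hg
          rwa [inv_inv] at this
        have h2 := (hxQ j).2 _ h1
        calc g * y = q * (q⁻¹ * g * q * x) * q⁻¹ := by rw [hy]; group
          _ = q * (x * (q⁻¹ * g * q)) * q⁻¹ := by rw [h2]
          _ = y * g := by rw [hy]; group
      have hyT : y ∈ T := C.QC_le j hyQ (mem_centralizer_iff.2 fun l hl => hyc l (C.bt.VQ j hl))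
      have hv'H : v' ∈ H := by rw [hv']; exact hV'H v hv
      rcases hTV v hv y hyT with e | e
      · rw [← hv'] at e
        exact (mul_inv_eq_iff_eq_mul.1 e).symm
      · exfalso
        rw [← hv'] at e
        have e1 : a = y * (v' * y⁻¹ * v'⁻¹) := by
          calc a = a * v' * v'⁻¹ := by group
            _ = y * v' * y⁻¹ * v'⁻¹ := by rw [e]
            _ = _ := by group
        obtain ⟨g, hg, hga⟩ := haQ
        apply hga
        have h3 : v'⁻¹ * g * v' ∈ Qd a b j := by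
          have := BTwo.conj_mem_of_normalizer (inv_mem (hHQ hv'H)) hg
          rwa [inv_inv] at this
        have h4 : v'⁻¹ * g * v' * y⁻¹ = y⁻¹ * (v'⁻¹ * g * v') :=
          ((show Commute _ y from hyc _ h3).inv_right).eq
        have h5 : g * (v' * y⁻¹ * v'⁻¹) = v' * y⁻¹ * v'⁻¹ * g := by
          calc g * (v' * y⁻¹ * v'⁻¹) = v' * (v'⁻¹ * g * v' * y⁻¹) * v'⁻¹ := by group
            _ = v' * (y⁻¹ * (v'⁻¹ * g * v')) * v'⁻¹ := by rw [h4]
            _ = _ := by group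
        have h6 : g * (y * (v' * y⁻¹ * v'⁻¹)) = y * (v' * y⁻¹ * v'⁻¹) * g := by
          rw [← mul_assoc, hyc g hg, mul_assoc, h5]
          group
        rwa [← e1] at h6
    -- the normal subgroup `N` of `H`
    let N : Subgroup G :=
      { carrier := {g | g ∈ H ∧ ∀ q ∈ H, g * (q * x * q⁻¹) = q * x * q⁻¹ * g}
        one_mem' := ⟨one_mem _, fun q _ => by rw [one_mul, mul_one]⟩
        mul_mem' := by
          rintro g g' ⟨hg, hg1⟩ ⟨hg', hg1'⟩
          refine ⟨mul_mem hg hg', fun q hq => ?_⟩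
          rw [mul_assoc, hg1' q hq, ← mul_assoc, hg1 q hq, mul_assoc]
        inv_mem' := by
          rintro g ⟨hg, hg1⟩
          exact ⟨inv_mem hg, fun q hq => ((show Commute g _ from hg1 q hq).inv_left).eq⟩ }
    have hNH : N ≤ H := fun g hg => hg.1
    have hHN : H ≤ normalizer (N : Set G) := by
      intro p hp
      refine BTwo.mem_normalizer_of_conj fun g hg => ⟨mul_mem (mul_mem hp hg.1) (inv_mem hp), fun q hq => ?_⟩
      have h1 := hg.2 (p⁻¹ * q) (mul_mem (inv_mem hp) hq)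
      calc p * g * p⁻¹ * (q * x * q⁻¹) = p * (g * (p⁻¹ * q * x * (p⁻¹ * q)⁻¹)) * p⁻¹ := by group
        _ = p * (p⁻¹ * q * x * (p⁻¹ * q)⁻¹ * g) * p⁻¹ := by rw [h1]
        _ = q * x * q⁻¹ * (p * g * p⁻¹) := by group
    have hNx : ∀ g ∈ N, g * x = x * g := by
      intro g hg
      have := hg.2 1 (one_mem _)
      rwa [one_mul, inv_one, mul_one] at this
    intro v hv
    have h1 : w * v * w⁻¹ ∈ N := ⟨hV'H v hv, fun q hq => hcom v hv q hq⟩
    have h2 : (O ⊓ N : Subgroup G) ≤ o2 N := by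
      refine le_o2 inf_le_right (hOp.to_le inf_le_left) fun g hg => ?_
      refine BTwo.mem_normalizer_of_conj fun z hz => mem_inf.2
        ⟨BTwo.conj_mem_of_normalizer (hxC (hNx g hg)) hz.1, mul_mem (mul_mem hg hz.2) (inv_mem hg)⟩
    have h3 := o2_le_o2 hNH hHN (h2 (mem_inf.2 ⟨hV'O v hv, h1⟩))
    rw [hH] at h3
    exact h3
  -- `u_j`
  obtain ⟨u, hu⟩ : ∃ u, u = w * b * w⁻¹ := ⟨_, rfl⟩
  have hLV : ∀ v ∈ ln h, ∀ l ∈ ln h, l * (w * v * w⁻¹) = w * v * w⁻¹ * l := fun v hv l hl =>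
    hV'c v hv l (hLO hl)
  have hul : ∀ l ∈ ln h, l * u = u * l := fun l hl => by rw [hu]; exact hLV b C.bL l hl
  have huu : u * u = 1 := by
    rw [hu]
    calc w * b * w⁻¹ * (w * b * w⁻¹) = w * (b * b) * w⁻¹ := by group
      _ = 1 := by rw [h.bb]; group
  have hua := hul a C.aL
  have hU : ∀ j : Fin 3, j ≠ 0 → ∃ u', (u' = u ∨ u' = u * a) ∧ ∀ g ∈ W j, g * u' = u' * g := by
    intro j hj
    obtain ⟨d, hd⟩ : ∃ d, d = dd a b j := ⟨_, rfl⟩
    have hdL : d ∈ ln h := by rw [hd]; exact h.dd_mem j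
    have hmemj : ∀ {z : G}, z ∈ pts a b j → z = 1 ∨ z = d := fun {z} hz => by
      rw [hd]; exact h.mem_pts.1 hz
    have hdd : d * d = 1 := C.sqL hdL
    have had : a * d = d * a := C.commL C.aL hdL
    have hanj : a ∉ pts a b j := fun e => by
      rcases h.mem_pts.1 e with e1 | e1
      · exact h.a1 e1
      · exact hj (h.dd_inj (i := 0) (j := j) e1).symm
    have had1 : a * d ∉ pts a b j := fun e => by
      have h1 : a * d * d ∈ pts a b j := mul_mem e (by rw [hd]; exact mem_zpowers _)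
      rw [mul_assoc, hdd, mul_one] at h1
      exact hanj h1
    obtain ⟨o, ho, eo⟩ := C.exists_W (i := j) C.aL (mul_mem C.aL hdL) hanj had1
    -- elements of `W_j ∩ C(a)`
    have hW0 : ∀ g ∈ W j, g * a = a * g → g * u = u * g := by
      intro g hg hga
      have hgQ := C.bt.W_le_Q j hg
      have hgL : g ∈ centralizer (ln h : Set G) := by
        have h1 : g * dd a b 0 * g⁻¹ = dd a b 0 := by
          show g * a * g⁻¹ = a
          rw [hga, mul_inv_cancel_right]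
        exact C.bt.mem_cen_Q (i := 0) (Ne.symm hj) hgQ h1
      have hgT := C.QC_le j hgQ hgL
      have h1 := C.bt.QW j _ (hVQ j hj b C.bL) g hg
      rw [← hu] at h1
      have h2 := hTV b C.bL g hgT
      rw [← hu] at h2
      rcases h2 with e | e
      · exact mul_inv_eq_iff_eq_mul.1 e
      · exfalso
        have e1 : u * g * u⁻¹ * g⁻¹ = a := by
          have e2 : (u * g * u⁻¹ * g⁻¹)⁻¹ = a := by
            calc (u * g * u⁻¹ * g⁻¹)⁻¹ = g * u * g⁻¹ * u⁻¹ := by group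
              _ = a := by rw [e]; group
          calc u * g * u⁻¹ * g⁻¹ = ((u * g * u⁻¹ * g⁻¹)⁻¹)⁻¹ := (inv_inv _).symm
            _ = a := by rw [e2]; exact inv_eq_of_mul_eq_one_left h.aa
        rw [e1] at h1
        exact hanj h1
    -- the element `o`
    obtain ⟨u', hu', hou⟩ : ∃ u', (u' = u ∨ u' = u * a) ∧ o * u' = u' * o := by
      have h1 := C.bt.QW j _ (hVQ j hj b C.bL) o ho
      rw [← hu] at h1
      rcases hmemj h1 with e | e
      · refine ⟨u, Or.inl rfl, ?_⟩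
        rw [mul_inv_eq_one, mul_inv_eq_iff_eq_mul] at e
        exact e.symm
      · refine ⟨u * a, Or.inr rfl, ?_⟩
        -- `o u o⁻¹ = u d`
        have e1 : o * u * o⁻¹ = u * d := by
          have hui : u⁻¹ = u := inv_eq_of_mul_eq_one_left huu
          have e2 : o * u⁻¹ * o⁻¹ = u⁻¹ * d := by rw [← e]; group
          rwa [hui] at e2
        have e3 : o * (u * a) * o⁻¹ = u * a := by
          calc o * (u * a) * o⁻¹ = (o * u * o⁻¹) * (o * a * o⁻¹) := by group
            _ = u * d * (a * d) := by rw [e1, eo]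
            _ = u * (d * a) * d := by group
            _ = u * a * (d * d) := by rw [← had]; group
            _ = u * a := by rw [hdd, mul_one]
        exact mul_inv_eq_iff_eq_mul.1 e3
    have hW1 : ∀ g ∈ W j, g * a = a * g → g * u' = u' * g := by
      intro g hg hga
      have h1 := hW0 g hg hga
      rcases hu' with e | e
      · rw [e]; exact h1
      · rw [e, ← mul_assoc, h1, mul_assoc, hga, mul_assoc]
    refine ⟨u', hu', fun g hg => ?_⟩
    rcases hmemj (C.bt.QV j g (C.bt.W_le_Q j hg) a C.aL) with e | e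
    · rw [mul_inv_eq_one, mul_inv_eq_iff_eq_mul] at e
      exact hW1 g hg e
    · have e1 : g * a * g⁻¹ = a * d := by
        rw [mul_inv_eq_iff_eq_mul] at e
        rw [e, had]
      have h1 : o⁻¹ * g ∈ W j := mul_mem (inv_mem ho) hg
      have h2 : o⁻¹ * g * a * (o⁻¹ * g)⁻¹ = a := by
        calc o⁻¹ * g * a * (o⁻¹ * g)⁻¹ = o⁻¹ * (g * a * g⁻¹) * o := by group
          _ = o⁻¹ * (o * a * o⁻¹) * o := by rw [e1, eo]
          _ = a := by group
      have h3 := hW1 _ h1 (mul_inv_eq_iff_eq_mul.1 h2)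
      calc g * u' = o * (o⁻¹ * g * u') := by group
        _ = o * u' * (o⁻¹ * g) := by rw [h3]; group
        _ = u' * g := by rw [hou]; group
  obtain ⟨u₁, hu₁, h1W⟩ := hU 1 (by decide)
  obtain ⟨u₂, hu₂, h2W⟩ := hU 2 (by decide)
  -- `u₁ ≠ u₂`
  have hne : u₁ ≠ u₂ := by
    intro e
    have hX : u₁ ∈ centralizer (XW W : Set G) :=
      C.bt.mem_cen_X (i := 1) (j := 2) (by decide) (mem_centralizer_iff.2 h1W)
        (mem_centralizer_iff.2 (by rw [e]; exact h2W))
    obtain ⟨g, hg, eg⟩ := C.exists_W (i := 0) C.bL C.abL C.b_notin C.ab_notin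
    have h1 : w * g * w⁻¹ ∈ W 0 := C.bt.cjW w 0 0 hwa' g hg
    have h2 := mem_centralizer_iff.1 hX _ (C.bt.W_le_X 0 h1)
    have hga : g * a = a * g := C.bt.Q_comm (C.bt.W_le_Q 0 hg)
    have h3 : (w * g * w⁻¹) * u * (w * g * w⁻¹)⁻¹ = u * a := by
      calc (w * g * w⁻¹) * u * (w * g * w⁻¹)⁻¹ = w * (g * b * g⁻¹) * w⁻¹ := by rw [hu]; group
        _ = (w * a * w⁻¹) * (w * b * w⁻¹) := by rw [eg]; group
        _ = a * u := by rw [hwa', hu]
        _ = u * a := hua
    have h4 : (w * g * w⁻¹) * a * (w * g * w⁻¹)⁻¹ = a := by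
      calc (w * g * w⁻¹) * a * (w * g * w⁻¹)⁻¹ = w * (g * (w⁻¹ * (a * w)) * g⁻¹) * w⁻¹ := by group
        _ = w * (g * a * g⁻¹) * w⁻¹ := by rw [← hwa]; group
        _ = w * a * w⁻¹ := by rw [hga]; group
        _ = a := hwa'
    have h5 : (w * g * w⁻¹) * u₁ * (w * g * w⁻¹)⁻¹ = u₁ := by rw [h2, mul_inv_cancel_right]
    have h6 : (w * g * w⁻¹) * u₁ * (w * g * w⁻¹)⁻¹ = u₁ * a := by
      rcases hu₁ with e | e
      · rw [e]; exact h3
      · rw [e]
        calc (w * g * w⁻¹) * (u * a) * (w * g * w⁻¹)⁻¹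
            = ((w * g * w⁻¹) * u * (w * g * w⁻¹)⁻¹) * ((w * g * w⁻¹) * a * (w * g * w⁻¹)⁻¹) := by group
          _ = u * a * a := by rw [h3, h4]
    have h7 : a = 1 := by
      have := h5.symm.trans h6
      exact (mul_left_cancel ((mul_one u₁).trans this)).symm
    exact h.a1 h7
  have hu21 : u₂ = u₁ * a := by
    rcases hu₁ with e1 | e1 <;> rcases hu₂ with e2 | e2
    · exact absurd (e1.trans e2.symm) hne
    · rw [e1, e2]
    · rw [e1, e2, mul_assoc, h.aa, mul_one]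
    · exact absurd (e1.trans e2.symm) hne
  have hu1L : ∀ l ∈ ln h, l * u₁ = u₁ * l := by
    intro l hl
    rcases hu₁ with e | e
    · rw [e]; exact hul l hl
    · rw [e, ← mul_assoc, hul l hl, mul_assoc, C.commL hl C.aL, mul_assoc]
  have hu1a : a * u₁ = u₁ * a := hu1L a C.aL
  have hu1b : b * u₁ = u₁ * b := hu1L b C.bL
  have hu11 : u₁ * u₁ = 1 := by
    rcases hu₁ with e | e
    · rw [e]; exact huu
    · rw [e]
      calc u * a * (u * a) = u * (a * u) * a := by group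
        _ = u * u * (a * a) := by rw [hua]; group
        _ = 1 := by rw [huu, h.aa, mul_one]
  have hu1T : u₁ ∈ T := by
    have h1 : u ∈ T := by rw [hu]; exact (mem_normalizer_iff.1 hwN b).1 (C.L_le C.bL)
    rcases hu₁ with e | e
    · rw [e]; exact h1
    · rw [e]; exact mul_mem h1 (C.L_le C.aL)
  -- `k = b u₁`
  have hkX : b * u₁ ∈ centralizer (XW W : Set G) := by
    refine C.bt.mem_cen_X (i := 1) (j := 2) (by decide)
      (mul_mem (C.bt.R_cen_W 1) (mem_centralizer_iff.2 h1W)) ?_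
    have e : b * u₁ = a * b * u₂ := by
      rw [hu21, ← hu1a]
      calc b * u₁ = (a * a) * b * u₁ := by rw [h.aa, one_mul]
        _ = a * (a * b) * u₁ := by group
        _ = a * (b * a) * u₁ := by rw [h.comm]
        _ = a * b * (a * u₁) := by group
    rw [e]
    exact mul_mem (C.bt.R_cen_W 2) (mem_centralizer_iff.2 h2W)
  have hkX' : ∀ y ∈ XW W, y * (b * u₁) = b * u₁ * y := fun y hy => mem_centralizer_iff.1 hkX y hy
  have hkT : b * u₁ ∈ T := mul_mem (C.L_le C.bL) hu1T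
  have hkk : b * u₁ * (b * u₁) = 1 := by
    calc b * u₁ * (b * u₁) = b * (u₁ * b) * u₁ := by group
      _ = b * b * (u₁ * u₁) := by rw [← hu1b]; group
      _ = 1 := by rw [h.bb, hu11, mul_one]
  have hkc : ∀ t ∈ T, t * (b * u₁) = b * u₁ * t := by
    intro t ht
    have h1 : t * (b * u₁) * t⁻¹ = b * u₁ ∨ t * (b * u₁) * t⁻¹ = b * u₁ * a := by
      have e : t * (b * u₁) * t⁻¹ = (t * b * t⁻¹) * (t * u₁ * t⁻¹) := by group
      have f2 : t * u₁ * t⁻¹ = u₁ ∨ t * u₁ * t⁻¹ = a * u₁ := by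
        have f3 := hTV b C.bL t ht
        rw [← hu] at f3
        rcases hu₁ with e | e
        · rw [e]; exact f3
        · rw [e]
          have f4 : t * (u * a) * t⁻¹ = (t * u * t⁻¹) * (t * a * t⁻¹) := by group
          rw [f4, C.comm_a ht, mul_inv_cancel_right]
          rcases f3 with e | e
          · left; rw [e]
          · right; rw [e, mul_assoc]
      rw [e]
      have hba : b * a = a * b := h.comm.symm
      rcases C.act_T ht with e1 | e1 <;> rcases f2 with e2 | e2 <;> rw [e1, e2]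
      · left; rfl
      · right; rw [hu1a, mul_assoc]
      · right
        rw [mul_assoc, mul_assoc, ← hu1a, ← mul_assoc a b, ← hba, mul_assoc]
      · left
        calc a * b * (a * u₁) = a * (b * a) * u₁ := by group
          _ = (a * a) * b * u₁ := by rw [hba]; group
          _ = b * u₁ := by rw [h.aa, one_mul]
    rcases h1 with e | e
    · exact mul_inv_eq_iff_eq_mul.1 e
    · exfalso
      have h2 : t ∈ normalizer (centralizer (XW W : Set G) : Set G) :=
        BTwo.normalizer_le_normalizer_centralizer _ (C.bt.NV_le_NX (C.TN ht))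
      have h3 := BTwo.conj_mem_of_normalizer h2 hkX
      rw [e] at h3
      have h4 := mul_mem (inv_mem hkX) h3
      rw [inv_mul_cancel_left] at h4
      exact h.a1 (C.bt.cen_VX C.aL h4)
  have hub : u = b * (b * u₁) ∨ u = a * b * (b * u₁) := by
    have e : b * (b * u₁) = u₁ := by rw [← mul_assoc, h.bb, one_mul]
    rcases hu₁ with e1 | e1
    · left; rw [e, e1]
    · right
      rw [mul_assoc, e, hu1a, e1, mul_assoc, h.aa, mul_one]
  refine ⟨w, hwN, hwT, hw2, hwa', b * u₁, mem_zc.2 ⟨hkT, hkc, by rw [pow_two]; exact hkk⟩, fun e => ?_, hkX', ?_⟩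
  · refine C.not_mem_N hwN hw2 hwT (C.mem_N (by rw [hwa']; exact C.aL) ?_)
    rw [← hu]
    rcases hub with f | f
    · rw [f, e, mul_one]; exact C.bL
    · rw [f, e, mul_one]; exact C.abL
  · rw [← hu]; exact hub

/-- **steps (2), (3)** -/
theorem main {T' : Subgroup G} (hT' : IsPGroup 2 T') (hlt : T < T') (hTa' : T' ≤ centralizer ({a} : Set G))
    {x : G} (hx : x ∈ zc T') (hx1 : x ≠ 1) (hxX : ∀ y ∈ XW W, y * x = x * y) :
    ∃ k ∈ zc T, k ≠ 1 ∧ (∀ y ∈ XW W, y * k = k * y) ∧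
      ∃ g, g * k = k * g ∧ g * a * g⁻¹ = a * k ∧ g * b * g⁻¹ = b * k := by
  by_cases hO : o2 (centralizer ({x} : Set G)) ≤ T
  · obtain ⟨w, hw⟩ := C.caseA hT' hlt hTa' hx hx1 hxX hO
    exact C.three hw
  · obtain ⟨w, hw⟩ := C.caseB (fun t ht => (mem_zc.1 hx).2.1 t (hlt.le ht)) hxX hO
    exact C.three hw


end Cf

end Cfsg.Agent.Omega.IId.SymWrD.Hw.TwoK
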