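import Cfsg.Agent.Omega.IId.SymWrD.Hw.Fw
import Cfsg.Agent.Omega.IId.SymWrD.Hw.TwoK
import Cfsg.Agent.Omega.CloseA.Weak

/-!
# THEOREM SYL^ (bb OMEGA #21666, helper916; refereed #21848), steps (1) - (3)

`h : Fw S P V D M` (no partner), `4 ≤ |Ω₁Z(S)|`, `L_0 = {1, n, 10, 20}`, `n = x μ(x)`, `T = C_S(n)`, `T^ ≥ T` a
2-group of odd index in `N_G(L_0)`.
* `Fw.xt` : the groups `K_r`, `r ∈ L_0#` (`TwoK.XT`); `Fw.T_le_cen` : `T^ ≤ C_G(n)`; `Fw.hdecT`; `Fw.cf`;
* `Fw.exists_k` : if `T^` has even index in `C_G(n)`: there are `1 ≠ k ∈ Ω₁Z(T^) ∩ C(X)` and `γ ∈ C(k)`,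
  `n^γ = n k`, `10^γ = 10 k`.
-/

set_option autoImplicit false
set_option linter.unusedSectionVars false

namespace Cfsg.Agent.Omega.IId.SymWrD.Hw

open Subgroup Cfsg Cfsg.Agent.Omega.MinPar Cfsg.Agent.Omega.FFThm
open Cfsg.Agent.ZN (o2 zc)
open Cfsg.Agent.ZN.ChoiceBase (cj mem_cj)
open Cfsg.Agent.Omega.Half.SymA (Pt E Mv pm)
open Cfsg.Agent.Omega.HT.LineOf (Ln ln pts dd)
open Cfsg.Agent.Omega.IId.Triangle (KK mem_KK KK_conj)
open Cfsg.Agent.MinSimple.VModule (le_normalizer_o2 o2_isPGroup o2_le mem_zc zc_le)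
open Ht (DD mem_DD Fr Tri tn)

universe u

variable {G : Type u} [Group G] [Finite G] {k m : ℕ}

namespace Fw

variable {S : Sylow 2 G} {P V D : Subgroup G} {M : SymK (S : Subgroup G) P V ⊥ k m} (h : Fw S P V D M)
  {p q r : Pt k m}
include h

/-- the groups `K_i` -/
theorem xt (t : Tri p q r) : TwoK.XT (h.line3 t) (fun i => KK (dd (pr M p q) (pr M p r) i)) where
  VQ := by
    intro i
    obtain ⟨a, b, c, e1, -, e2, -, -, e, -⟩ := h.dd_cases t i
    show _ ≤ o2 (centralizer ({dd (pr M p q) (pr M p r) i} : Set G))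
    rw [e]
    exact (h.ln_le t).trans (h.V_le e1 e2)
  QV := by
    intro i g hg v hv
    obtain ⟨a, b, c, e1, -, e2, -, -, e, -⟩ := h.dd_cases t i
    change g ∈ o2 (centralizer ({dd (pr M p q) (pr M p r) i} : Set G)) at hg
    rw [e] at hg
    rw [(h.line3 t).mem_pts, e]
    rcases h.comm_mem e1 e2 hg (h.ln_le t hv) with h1 | h1
    · left; rw [h1, mul_inv_cancel]
    · right
      rw [h1, h.Vcomm (h.ln_le t hv) (pr_mem M a b), mul_inv_cancel_right]
  W_le_Q := by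
    intro i
    obtain ⟨a, b, c, e1, -, e2, -, -, e, -⟩ := h.dd_cases t i
    show KK (dd (pr M p q) (pr M p r) i) ≤ o2 (centralizer ({dd (pr M p q) (pr M p r) i} : Set G))
    rw [e]
    exact h.KK_le e1 e2
  QW := by
    intro i g hg w hw
    have h1 := (mem_KK.1 hw).2 g hg
    have e : g * w * g⁻¹ * w⁻¹ = (w * g * w⁻¹ * g⁻¹)⁻¹ := by group
    rw [e]
    exact inv_mem h1
  cjW := by
    intro g i j e w hw
    have h1 := KK_conj (h := g) hw
    rw [e] at h1
    exact h1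
  sw := by
    intro i j l hj hl
    by_cases hjl : j = l
    · exact ⟨1, one_mem _, by rw [hjl]; group⟩
    obtain ⟨a, b, c, e1, e1', e2, e2', e3, e, ⟨j₀, hj₀⟩, -⟩ := h.dd_cases t i
    obtain ⟨w, hw, hwp⟩ := h.par e1 e2
    have hwP := h.Qle e1 e2 (h.KK_le e1 e2 hw)
    have hE : E M (pr M a c) a ≠ E M (pr M a c) b := by
      rw [E_pr_left M e1' e2', E_pr_of_ne M e1' e2.symm e3]
      exact one_ne_zero
    have h1 : w * dd (pr M p q) (pr M p r) j₀ * w⁻¹ =
        dd (pr M p q) (pr M p r) j₀ * dd (pr M p q) (pr M p r) i := by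
      rw [hj₀, e]
      exact h.conj_swap hwP e1 hwp (pr_mem M a c) hE
    have h2 : w * dd (pr M p q) (pr M p r) i * w⁻¹ = dd (pr M p q) (pr M p r) i := by
      rw [e, (mem_KK.1 hw).1, mul_inv_cancel_right]
    have hji : j₀ ≠ i := by
      rintro rfl
      rw [h2] at h1
      exact (h.line3 t).dd_ne j₀ (mul_left_cancel (h1.symm.trans (mul_one _).symm)) 
    refine ⟨w, by rw [e]; exact hw, ?_⟩
    by_cases hjj : j = j₀
    · rw [hjj, h1]
      exact (h.line3 t).dd_mul hji (fun e => hjl (by rw [hjj, e])) (Ne.symm hl)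
    · have hj0l : j₀ = l := HT.LineOf.third_eq hj hl hjl hji (fun e => hjj e.symm)
      have h3 : dd (pr M p q) (pr M p r) j = dd (pr M p q) (pr M p r) j₀ * dd (pr M p q) (pr M p r) i :=
        ((h.line3 t).dd_mul hji (fun e => hjj e.symm) (Ne.symm hj)).symm
      rw [h3]
      calc w * (dd (pr M p q) (pr M p r) j₀ * dd (pr M p q) (pr M p r) i) * w⁻¹
          = (w * dd (pr M p q) (pr M p r) j₀ * w⁻¹) * (w * dd (pr M p q) (pr M p r) i * w⁻¹) := by group
        _ = dd (pr M p q) (pr M p r) l := by rw [h1, h2, mul_assoc, (h.line3 t).dd_sq, mul_one, hj0l]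

variable {μ ν : Equiv.Perm (Pt k m)} (F : Fours M μ ν) {x : Pt k m} (hx : x.2 ≠ 0)
  (zv : zc (o2 P) ≤ V ⊔ DD M) {T : Subgroup G} (hTT : tn S M μ x ≤ T) (hTp : IsPGroup 2 T)
  (hTN : T ≤ normalizer (ln (h.line3 (h.tri F hx)) : Set G))
include F hx

/-- `t_n ∈ T` -/
theorem exists_tn : ∃ τ ∈ tn S M μ x, pp M τ = Equiv.swap x (μ x) ∧
    τ * pr M x (x.1, 0) * τ⁻¹ = pr M x (x.1, 0) * pr M x (μ x) := by
  obtain ⟨τ, hτ, hτp⟩ := h.exists_swap F hx hx
  have t := h.tri F hx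
  refine ⟨τ, hτ, hτp, h.conj_swap (h.SP hτ.1) t.pq hτp (pr_mem M _ _) ?_⟩
  rw [E_pr_left M t.pr t.n2, E_pr_of_ne M t.pr t.n1.symm t.n3]
  exact one_ne_zero

include hTT in
/-- an element of the line commuting with `T` is in `⟨n⟩` -/
theorem ln_fix {v : G} (hv : v ∈ ln (h.line3 (h.tri F hx))) (hvT : ∀ t ∈ T, t * v = v * t) :
    v = 1 ∨ v = pr M x (μ x) := by
  have t := h.tri F hx
  obtain ⟨τ, hτ, -, e⟩ := h.exists_tn F hx
  have hτv := hvT τ (hTT hτ)
  have hn : τ * pr M x (μ x) * τ⁻¹ = pr M x (μ x) := by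
    rw [mem_centralizer_singleton_iff.1 hτ.2, mul_inv_cancel_right]
  have hne : pr M x (μ x) ≠ 1 := h.pr_ne t.pq t.n1
  rcases hv with e1 | ⟨i, e1⟩
  · exact Or.inl e1
  · fin_cases i
    · exact Or.inr e1
    · exfalso
      have e2 : v = pr M x (x.1, 0) := e1
      rw [← e2, hτv, mul_inv_cancel_right] at e
      exact hne (mul_left_cancel ((mul_one v).trans e)).symm
    · exfalso
      have e2 : v = pr M x (μ x) * pr M x (x.1, 0) := e1
      have e3 : τ * v * τ⁻¹ = v * pr M x (μ x) := by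
        rw [e2]
        calc τ * (pr M x (μ x) * pr M x (x.1, 0)) * τ⁻¹
            = (τ * pr M x (μ x) * τ⁻¹) * (τ * pr M x (x.1, 0) * τ⁻¹) := by group
          _ = pr M x (μ x) * pr M x (x.1, 0) * pr M x (μ x) := by rw [hn, e, mul_assoc]
      rw [hτv, mul_inv_cancel_right] at e3
      exact hne (mul_left_cancel ((mul_one v).trans e3)).symm

include hTT hTp hTN

theorem T_le_cen : T ≤ centralizer ({pr M x (μ x)} : Set G) := by
  have hV : IsPGroup 2 (ln (h.line3 (h.tri F hx))) := by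
    rintro ⟨v, hv⟩
    refine ⟨1, Subtype.ext ?_⟩
    show v ^ 2 ^ 1 = 1
    rw [pow_one, pow_two]
    exact h.Vsq (h.ln_le (h.tri F hx) hv)
  obtain ⟨e, he, he1, -, hc⟩ := HT.exists_inv hTp hV (fun e0 => (h.line3 (h.tri F hx)).a1 (by
    have h1 : pr M x (μ x) ∈ ln (h.line3 (h.tri F hx)) := (h.line3 (h.tri F hx)).dd_mem 0
    rw [e0] at h1
    exact mem_bot.1 h1)) hTN
  have h1 := (h.ln_fix F hx hTT he fun t ht => (hc t ht).symm).resolve_left he1
  intro t ht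
  rw [mem_centralizer_singleton_iff, ← h1]
  exact (hc t ht).symm

theorem zcT_le : zc T ≤ zc (tn S M μ x) := by
  intro z hz
  have h1 := mem_zc.1 hz
  have h2 : z ∈ zc (o2 P) := h.mem_zc_of F hx (by rw [← pow_two]; exact h1.2.2)
    fun y hy => h1.2.1 y (hTT (h.Q_le_tn F hx hy))
  exact mem_zc.2 ⟨h.Q_le_tn F hx (zc_le _ h2), fun y hy => h1.2.1 y (hTT hy), h1.2.2⟩

include zv

theorem hdecT {z : G} (hz : z ∈ zc T) : ∃ v ∈ ln (h.line3 (h.tri F hx)), ∃ c,
    (∀ y ∈ h.XK (h.tri F hx), y * c = c * y) ∧ (∀ t ∈ T, t * c = c * t) ∧ z = v * c := by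
  obtain ⟨v, hv, c, hcX, hcT, e⟩ := h.hdec F hx zv (h.zcT_le F hx hTT hTp hTN hz)
  have hzT := (mem_zc.1 hz).2.1
  have hv1 : v = 1 ∨ v = pr M x (μ x) := by
    refine h.ln_fix F hx le_rfl hv fun t ht => ?_
    have h1 : v = z * c⁻¹ := by rw [e]; group
    have h2 : t * c⁻¹ = c⁻¹ * t := ((show Commute t c from hcT t ht).inv_right).eq
    rw [h1, ← mul_assoc, hzT t (hTT ht), mul_assoc, h2, mul_assoc]
  refine ⟨v, hv, c, hcX, fun t ht => ?_, e⟩
  have h1 : c = v⁻¹ * z := by rw [e]; group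
  have h2 : t * v = v * t := by
    rcases hv1 with e1 | e1
    · rw [e1, mul_one, one_mul]
    · rw [e1]; exact mem_centralizer_singleton_iff.1 (h.T_le_cen F hx hTT hTp hTN ht)
  have h3 : t * v⁻¹ = v⁻¹ * t := ((show Commute t v from h2).inv_right).eq
  rw [h1, ← mul_assoc, h3, mul_assoc, hzT t ht, mul_assoc]

theorem cf (hodd : ¬ 2 ∣ T.relIndex (normalizer (ln (h.line3 (h.tri F hx)) : Set G))) :
    TwoK.Cf (h.line3 (h.tri F hx)) (fun i => KK (dd (pr M x (μ x)) (pr M x (x.1, 0)) i)) T where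
  bt := h.xt (h.tri F hx)
  char2 := h.char2
  Tp := hTp
  TN := hTN
  Ta := h.T_le_cen F hx hTT hTp hTN
  syl := hodd
  dec := fun z hz => h.hdecT F hx zv hTT hTp hTN hz
  zt := by
    intro t ht c hc hcc hc0
    have hTn := h.T_le_cen F hx hTT hTp hTN
    have hQ : ∀ y ∈ o2 P, y ∈ T ∧ y ∈ centralizer (ln (h.line3 (h.tri F hx)) : Set G) := by
      intro y hy
      refine ⟨hTT (h.Q_le_tn F hx hy), ?_⟩
      have h1 : y ∈ centralizer (V : Set G) := by
        have := h.Q_eq ▸ hy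
        exact this.2
      exact centralizer_le (h.ln_le (h.tri F hx)) h1
    have hcz : c ∈ zc (o2 P) := h.mem_zc_of F hx hcc fun y hy => hc0 y (hQ y hy).1 (hQ y hy).2
    obtain ⟨τ, hτ, hτp, eτ⟩ := h.exists_tn F hx
    have hτc := h.swap_zz zv (h.SP hτ.1) (h.tri F hx).pq hτp hcz
    have hnn : ∀ {s : G}, s ∈ T → s * pr M x (μ x) = pr M x (μ x) * s := fun hs =>
      mem_centralizer_singleton_iff.1 (hTn hs)
    -- the action of `t` on the line
    have hact : t * pr M x (x.1, 0) * t⁻¹ = pr M x (x.1, 0) ∨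
        t * pr M x (x.1, 0) * t⁻¹ = pr M x (μ x) * pr M x (x.1, 0) := by
      have h1 : t * pr M x (x.1, 0) * t⁻¹ ∈ ln (h.line3 (h.tri F hx)) :=
        BTwo.conj_mem_of_normalizer (hTN ht) ((h.line3 (h.tri F hx)).dd_mem 1)
      rcases h1 with e | ⟨i, e⟩
      · exact absurd (conj_eq_one_iff.1 e) (h.line3 (h.tri F hx)).b1
      · fin_cases i
        · exfalso
          have e1 : t * pr M x (x.1, 0) * t⁻¹ = pr M x (μ x) := e
          have e2 : t * pr M x (μ x) * t⁻¹ = pr M x (μ x) := by rw [hnn ht, mul_inv_cancel_right]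
          exact (h.line3 (h.tri F hx)).ne (mul_left_cancel (mul_right_cancel (e2.trans e1.symm)))
        · exact Or.inl e
        · exact Or.inr e
    have hcen : ∀ {s : G}, s ∈ T → s * pr M x (x.1, 0) * s⁻¹ = pr M x (x.1, 0) →
        s ∈ centralizer (ln (h.line3 (h.tri F hx)) : Set G) := by
      intro s hs e
      have h1 := hnn hs
      have h2 : s * pr M x (x.1, 0) = pr M x (x.1, 0) * s := mul_inv_eq_iff_eq_mul.1 e
      rw [mem_centralizer_iff]
      rintro v (rfl | ⟨i, rfl⟩)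
      · rw [one_mul, mul_one]
      · fin_cases i
        · exact h1.symm
        · exact h2.symm
        · show pr M x (μ x) * pr M x (x.1, 0) * s = s * (pr M x (μ x) * pr M x (x.1, 0))
          rw [mul_assoc, ← h2, ← mul_assoc, ← h1, mul_assoc]
    rcases hact with e | e
    · left
      rw [hc0 t ht (hcen ht e), mul_inv_cancel_right]
    · -- `t τ⁻¹` centralises the line
      have hs : t * τ⁻¹ ∈ T := mul_mem ht (inv_mem (hTT hτ))
      have hcm : pr M x (μ x) * pr M x (x.1, 0) = pr M x (x.1, 0) * pr M x (μ x) := (h.line3 (h.tri F hx)).comm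
      have e2 : t * τ⁻¹ * pr M x (x.1, 0) * (t * τ⁻¹)⁻¹ = pr M x (x.1, 0) := by
        have e3 : τ⁻¹ * pr M x (x.1, 0) * τ = pr M x (x.1, 0) * pr M x (μ x) := by
          have e4 : τ⁻¹ * (pr M x (x.1, 0) * pr M x (μ x)) * τ = pr M x (x.1, 0) := by rw [← eτ]; group
          have e5 : τ⁻¹ * pr M x (μ x) * τ = pr M x (μ x) := by
            have := hnn (hTT hτ)
            rw [mul_assoc, ← this, inv_mul_cancel_left]
          calc τ⁻¹ * pr M x (x.1, 0) * τ
              = τ⁻¹ * (pr M x (x.1, 0) * pr M x (μ x)) * τ * (τ⁻¹ * pr M x (μ x) * τ)⁻¹ := by group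
            _ = pr M x (x.1, 0) * (pr M x (μ x))⁻¹ := by rw [e4, e5]
            _ = pr M x (x.1, 0) * pr M x (μ x) := by
              rw [inv_eq_of_mul_eq_one_left (h.pr_sq (p := x) (q := μ x))]
        calc t * τ⁻¹ * pr M x (x.1, 0) * (t * τ⁻¹)⁻¹ = t * (τ⁻¹ * pr M x (x.1, 0) * τ) * t⁻¹ := by group
          _ = (t * pr M x (x.1, 0) * t⁻¹) * (t * pr M x (μ x) * t⁻¹) := by rw [e3]; group
          _ = pr M x (x.1, 0) := by
            rw [e, hnn ht, mul_inv_cancel_right, hcm, mul_assoc, h.pr_sq, mul_one]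
      have h1 := hc0 _ hs (hcen hs e2)
      have e3 : t * c * t⁻¹ = t * τ⁻¹ * (τ * c * τ⁻¹) * (t * τ⁻¹)⁻¹ := by group
      rcases hτc with e4 | e4
      · left; rw [e3, e4, h1, mul_inv_cancel_right]
      · right
        rw [e3, e4]
        calc t * τ⁻¹ * (c * pr M x (μ x)) * (t * τ⁻¹)⁻¹
            = (t * τ⁻¹ * c) * pr M x (μ x) * (t * τ⁻¹)⁻¹ := by group
          _ = c * (t * τ⁻¹ * pr M x (μ x)) * (t * τ⁻¹)⁻¹ := by rw [h1]; group
          _ = c * pr M x (μ x) := by rw [hnn hs]; group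

omit hTN in
/-- a maximal 2-subgroup of `C(n)` contains `Ω₁Z` of a Sylow 2-subgroup of `G` -/
theorem card_zc_le {T' : Subgroup G} (hT' : IsPGroup 2 T') (hTT' : T ≤ T')
    (hT'n : T' ≤ centralizer ({pr M x (μ x)} : Set G))
    (hodd : ¬ 2 ∣ T'.relIndex (centralizer ({pr M x (μ x)} : Set G))) :
    Nat.card (zc (S : Subgroup G)) ≤ Nat.card (zc T') := by
  obtain ⟨g, -, hg⟩ := CloseA.exists_conj_le S (H := ⊤) le_top (T := T') le_top hT'
  -- `z ↦ g⁻¹ z g`
  have key : ∀ z ∈ zc (S : Subgroup G), g⁻¹ * z * g ∈ zc T' := by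
    intro z hz
    have h1 := mem_zc.1 hz
    obtain ⟨z', hz'⟩ : ∃ z', z' = g⁻¹ * z * g := ⟨_, rfl⟩
    rw [← hz']
    have hc : ∀ t ∈ T', t * z' = z' * t := by
      intro t ht
      have h2 := h1.2.1 _ (hg t ht)
      rw [hz']
      calc t * (g⁻¹ * z * g) = g⁻¹ * (g * t * g⁻¹ * z) * g := by group
        _ = g⁻¹ * (z * (g * t * g⁻¹)) * g := by rw [h2]
        _ = g⁻¹ * z * g * t := by group
    have h2 : z' ^ 2 = 1 := by
      rw [hz', pow_two]
      calc g⁻¹ * z * g * (g⁻¹ * z * g) = g⁻¹ * (z ^ 2) * g := by rw [pow_two]; group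
        _ = 1 := by rw [h1.2.2]; group
    have hn : z' ∈ centralizer ({pr M x (μ x)} : Set G) := by
      rw [mem_centralizer_singleton_iff]
      exact (hc _ (hTT' (hTT (h.V_le_tn F hx (pr_mem M _ _))))).symm
    have hzN : z' ∈ normalizer (T' : Set G) := by
      refine BTwo.mem_normalizer_of_conj fun t ht => ?_
      rw [← hc t ht, mul_inv_cancel_right]; exact ht
    by_contra hcon
    have h3 : z' ∉ T' := fun e => hcon (mem_zc.2 ⟨e, hc, h2⟩)
    have h4 : IsPGroup 2 (T' ⊔ zpowers z' : Subgroup G) :=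
      TwoK.sup_zp hT' hzN (by rw [← pow_two, h2]; exact one_mem _)
    have h5 := HT.card_dvd_card hT'n hodd h4 (sup_le hT'n (by rw [zpowers_le]; exact hn))
    have h6 : T' = T' ⊔ zpowers z' := eq_of_le_of_card_ge le_sup_left (Nat.le_of_dvd Nat.card_pos h5)
    exact h3 (h6.symm.le (mem_sup_right (mem_zpowers z')))
  refine Nat.card_le_card_of_injective (fun z : zc (S : Subgroup G) => (⟨g⁻¹ * z * g, key z z.2⟩ : zc T')) ?_
  intro z w e
  have h1 : g⁻¹ * (z : G) * g = g⁻¹ * w * g := congrArg Subtype.val e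
  exact Subtype.ext (mul_left_cancel (mul_right_cancel h1))

/-- the configuration after (1) - (3) -/
theorem exists_k (h4 : 4 ≤ Nat.card (zc (S : Subgroup G)))
    (hodd : ¬ 2 ∣ T.relIndex (normalizer (ln (h.line3 (h.tri F hx)) : Set G)))
    (hneg : 2 ∣ T.relIndex (centralizer ({pr M x (μ x)} : Set G))) :
    ∃ k ∈ zc T, k ≠ 1 ∧ (∀ y ∈ h.XK (h.tri F hx), y * k = k * y) ∧ ∃ g, g * k = k * g ∧
      g * pr M x (μ x) * g⁻¹ = pr M x (μ x) * k ∧ g * pr M x (x.1, 0) * g⁻¹ = pr M x (x.1, 0) * k := by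
  have C := h.cf F hx zv hTT hTp hTN hodd
  have hTn := h.T_le_cen F hx hTT hTp hTN
  obtain ⟨T', hTT', hT'n, hT', hodd'⟩ := HT.exists_syl hTp hTn
  have hlt : T < T' := lt_of_le_of_ne hTT' fun e => hodd' (by rw [← e]; exact hneg)
  have hcard := h4.trans (h.card_zc_le F hx zv hTT hTp hT' hTT' hT'n hodd')
  -- an element of `Ω₁Z(T')` outside `⟨n⟩`
  obtain ⟨z, hz, hz1, hzn⟩ : ∃ z ∈ zc T', z ≠ 1 ∧ z ≠ pr M x (μ x) := by
    by_contra hcon
    push Not at hcon
    have h1 : Nat.card (zc T') ≤ Nat.card (zpowers (pr M x (μ x))) := by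
      refine card_le_of_le fun z hz => ?_
      by_cases e : z = 1
      · rw [e]; exact one_mem _
      · rw [hcon z hz e]; exact mem_zpowers _
    rw [HT.LineOf.card_zp h.pr_sq (h.pr_ne (h.tri F hx).pq (h.tri F hx).n1)] at h1
    omega
  have hzT' := mem_zc.1 hz
  have hnT : pr M x (μ x) ∈ T := hTT (h.V_le_tn F hx (pr_mem M _ _))
  have hnz : pr M x (μ x) ∈ zc T' := mem_zc.2 ⟨hTT' hnT, fun t ht => mem_centralizer_singleton_iff.1 (hT'n ht),
    by rw [pow_two]; exact h.pr_sq⟩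
  have hzT : z ∈ zc T := by
    have h2 : z ∈ zc (o2 P) := h.mem_zc_of F hx (by rw [← pow_two]; exact hzT'.2.2)
      fun y hy => hzT'.2.1 y (hTT' (hTT (h.Q_le_tn F hx hy)))
    exact mem_zc.2 ⟨hTT (h.Q_le_tn F hx (zc_le _ h2)), fun y hy => hzT'.2.1 y (hTT' hy), hzT'.2.2⟩
  obtain ⟨v, hv, c, hcX, hcT, e⟩ := h.hdecT F hx zv hTT hTp hTN hzT
  have hv1 : v = 1 ∨ v = pr M x (μ x) := by
    refine h.ln_fix F hx hTT hv fun t ht => ?_
    have h1 : v = z * c⁻¹ := by rw [e]; group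
    have h2 : t * c⁻¹ = c⁻¹ * t := ((show Commute t c from hcT t ht).inv_right).eq
    rw [h1, ← mul_assoc, (mem_zc.1 hzT).2.1 t ht, mul_assoc, h2, mul_assoc]
  obtain ⟨y, hy, hy1, hyX⟩ : ∃ y ∈ zc T', y ≠ 1 ∧ ∀ s ∈ h.XK (h.tri F hx), s * y = y * s := by
    rcases hv1 with e1 | e1
    · rw [e1, one_mul] at e
      exact ⟨z, hz, hz1, by rw [e]; exact hcX⟩
    · refine ⟨c, ?_, fun e2 => hzn ?_, hcX⟩
      · have : c = (pr M x (μ x))⁻¹ * z := by rw [e, e1]; group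
        rw [this]
        exact mul_mem (inv_mem hnz) hz
      · rw [e, e1, e2, mul_one]
  exact C.main hT' hlt hT'n hy hy1 hyX


end Fw

end Cfsg.Agent.Omega.IId.SymWrD.Hw
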