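import Cfsg.Agent.Omega.IId.SymWrD.Hw.Fw
import Cfsg.Agent.Omega.IId.SymWrD.Hw.TwoK

/-!
# THEOREM SYL^ (bb OMEGA #21666, helper916), step (7)

`c ∈ Ω₁Z(T) ∩ C(X)`, `c ≠ 1`, `g` commutes with `c`, `n^g = n c`, `10^g = 10 c`; `N ∋ n` normal in `C_G(n c)`,
centralised by the `v d`, `v ∈ V` commuting with `(x μx)`, `d ∈ DD M`. Then `ZZ ≤ O₂(C_G(nc))`, an element of
`K_{nc}` acts on `ZZ` with centre `nc`, so `nc` is an `S`-duad (LEMMA C): contradiction.
-/

set_option autoImplicit false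
set_option linter.unusedSectionVars false

namespace Cfsg.Agent.Omega.IId.SymWrD.Hw

open Subgroup Cfsg Cfsg.Agent.Omega.MinPar Cfsg.Agent.Omega.FFThm
open Cfsg.Agent.ZN (o2 zc)
open Cfsg.Agent.Omega.Half.SymA (Pt E Mv pm)
open Cfsg.Agent.Omega.HT.LineOf (Ln ln pts dd)
open Cfsg.Agent.Omega.IId.Triangle (KK mem_KK KK_conj KK_le_o2 o2_cent_conj mem_zpowers_iff_of_sq)
open Cfsg.Agent.MinSimple.VModule (le_normalizer_o2 o2_isPGroup o2_le mem_zc zc_le le_o2)
open Cfsg.Agent.MinSimple.Geo (mem_o2_of_stab)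
open Ht (DD mem_DD Fr Tri tn)

universe u

variable {G : Type u} [Group G] [Finite G] {k m : ℕ}

namespace Fw

variable {S : Sylow 2 G} {P V D : Subgroup G} {M : SymK (S : Subgroup G) P V ⊥ k m} (h : Fw S P V D M)
include h

/-- `v d ∈ O₂(C_G(n))` for `v ∈ V` commuting with `(p q)`, `d ∈ DD M` -/
theorem perp_DD {p q : Pt k m} (hpq : p.1 = q.1) (hne : p ≠ q) {v d : G} (hv : v ∈ V) (hE : E M v p = E M v q)
    (hd : d ∈ DD M) : v * d ∈ o2 (centralizer ({pr M p q} : Set G)) := by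
  have hd1 := mem_DD.1 hd
  refine mul_mem (zc_le _ (h.perp hpq hne hv hE)) (MinSimple.Basic.char2_centralizer h.char2
    (by rw [pow_two]; exact h.pr_sq) (h.pr_ne hpq hne) (mem_inf.2 ⟨?_, mem_centralizer_iff.2 fun y hy => ?_⟩))
  · rw [mem_centralizer_singleton_iff]
    exact Sit.zz_comm hd1.1 (h.VZ (pr_mem M p q))
  · refine hd1.2 y (h.Qle hpq hne hy) fun r => ?_
    rcases h.Qpp hpq hne hy with e | e
    · rw [e]; rfl
    · rw [e]; exact swap_fst_eq hpq r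

variable {μ ν : Equiv.Perm (Pt k m)} (F : Fours M μ ν) {x : Pt k m} (hx : x.2 ≠ 0)
  (zv : zc (o2 P) ≤ V ⊔ DD M)
include F hx zv

/-- **step (7)** -/
theorem syl_seven {c g : G} (hcT : c ∈ zc (tn S M μ x)) (hc1 : c ≠ 1)
    (hcX : ∀ y ∈ h.XK (h.tri F hx), y * c = c * y) (hcQ : c ∈ zc (o2 (centralizer ({pr M x (μ x)} : Set G))))
    (hgc : g * c = c * g) (hga : g * pr M x (μ x) * g⁻¹ = pr M x (μ x) * c)
    (hgb : g * pr M x (x.1, 0) * g⁻¹ = pr M x (x.1, 0) * c) {N : Subgroup G} (hn : pr M x (μ x) ∈ N)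
    (hNC : N ≤ centralizer ({pr M x (μ x) * c} : Set G))
    (hCN : centralizer ({pr M x (μ x) * c} : Set G) ≤ normalizer (N : Set G))
    (hNZ : ∀ v ∈ V, E M v x = E M v (μ x) → ∀ d ∈ DD M, ∀ y ∈ N, y * (v * d) = v * d * y) : False := by
  have t := h.tri F hx
  obtain ⟨n, hnd⟩ : ∃ n, n = pr M x (μ x) := ⟨_, rfl⟩
  obtain ⟨b, hb⟩ : ∃ b, b = pr M x (x.1, 0) := ⟨_, rfl⟩
  obtain ⟨p, hp⟩ : ∃ p, p = n * c := ⟨_, rfl⟩
  have hnV : n ∈ V := by rw [hnd]; exact pr_mem M _ _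
  have hbV : b ∈ V := by rw [hb]; exact pr_mem M _ _
  have hcz : c ∈ zc (o2 P) := h.zc_tn_le F hx hcT
  have hcc : c * c = 1 := by rw [← pow_two]; exact (mem_zc.1 hcz).2.2
  have hnn : n * n = 1 := h.Vsq hnV
  have hbb : b * b = 1 := h.Vsq hbV
  have hnc : n * c = c * n := Sit.zz_comm (h.VZ hnV) hcz
  have hbc : b * c = c * b := Sit.zz_comm (h.VZ hbV) hcz
  have hnb : n * b = b * n := h.Vcomm hnV hbV
  rw [← hnd] at hcQ hga hn hNC hCN
  rw [← hp] at hga hNC hCN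
  rw [← hb] at hgb
  have hpz : p ∈ zc (o2 P) := by rw [hp]; exact mul_mem (h.VZ hnV) hcz
  have hpp : p * p = 1 := by rw [← pow_two]; exact (mem_zc.1 hpz).2.2
  have hp1 : p ≠ 1 := by
    intro e
    rw [← hga] at e
    have h1 := conj_eq_one_iff.1 e
    rw [hnd] at h1
    exact h.pr_ne t.pq t.n1 h1
  obtain ⟨Qp, hQp⟩ : ∃ Qp, Qp = o2 (centralizer ({p} : Set G)) := ⟨_, rfl⟩
  -- **A**
  have hA : ∀ v ∈ V, E M v x = E M v (μ x) → ∀ d ∈ DD M, v * d ∈ Qp := by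
    intro v hv hE d hd
    have hz := h.perp_DD t.pq t.n1 hv hE hd
    rw [← hnd] at hz
    obtain ⟨C', hC'⟩ : ∃ C', C' = centralizer (N : Set G) ⊓ centralizer ({p} : Set G) := ⟨_, rfl⟩
    have hvd : v * d ∈ zc (o2 P) := mul_mem (h.VZ hv) (mem_DD.1 hd).1
    have h1 : v * d ∈ C' := by
      rw [hC']
      exact mem_inf.2 ⟨mem_centralizer_iff.2 fun y hy => hNZ v hv hE d hd y hy,
        mem_centralizer_singleton_iff.2 (Sit.zz_comm hvd hpz)⟩
    have hC'n : C' ≤ centralizer ({n} : Set G) := by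
      rw [hC']
      exact fun y hy => mem_centralizer_singleton_iff.2 (mem_centralizer_iff.1 hy.1 n hn).symm
    have h2 : (o2 (centralizer ({n} : Set G)) ⊓ C' : Subgroup G) ≤ o2 C' := by
      refine le_o2 inf_le_right ((o2_isPGroup _).to_le inf_le_left) fun y hy => ?_
      exact BTwo.mem_normalizer_of_conj fun z hz => mem_inf.2
        ⟨BTwo.conj_mem_of_normalizer (le_normalizer_o2 _ (hC'n hy)) hz.1, mul_mem (mul_mem hy hz.2) (inv_mem hy)⟩
    have h3 : o2 C' ≤ o2 (centralizer ({p} : Set G)) := by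
      refine TwoK.o2_le_o2 (by rw [hC']; exact inf_le_right) fun y hy => ?_
      rw [hC']
      exact BTwo.mem_normalizer_of_conj fun z hz => mem_inf.2
        ⟨BTwo.conj_mem_of_normalizer (BTwo.normalizer_le_normalizer_centralizer _ (hCN hy)) hz.1,
          mul_mem (mul_mem hy hz.2) (inv_mem hy)⟩
    rw [hQp]
    exact h3 (h2 (mem_inf.2 ⟨hz, h1⟩))
  -- **B**
  have hgc' : g * c * g⁻¹ = c := by rw [hgc, mul_inv_cancel_right]
  have hbQ : b ∈ Qp := by
    have h1 : b * c ∈ o2 (centralizer ({n} : Set G)) := by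
      refine mul_mem ?_ (zc_le _ hcQ)
      rw [hnd]; exact h.V_le t.pq t.n1 hbV
    have h2 : g * (b * c) * g⁻¹ = b := by
      calc g * (b * c) * g⁻¹ = (g * b * g⁻¹) * (g * c * g⁻¹) := by group
        _ = b := by rw [hgb, hgc', mul_assoc, hcc, mul_one]
    rw [hQp, ← hga, o2_cent_conj]
    exact ⟨b * c, h1, h2⟩
  -- **C**
  have hone : (1 : G) ∈ DD M := one_mem _
  have hC : zc (o2 P) ≤ Qp := by
    intro z hz
    obtain ⟨v, hv, d, hd, rfl⟩ := h.zz_dec zv hz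
    by_cases hE : E M v x = E M v (μ x)
    · exact hA v hv hE d hd
    · have h1 := hA (b * v) (mul_mem hbV hv) (by
        rw [Half.SymA.E_mul M hbV hv, Half.SymA.E_mul M hbV hv, hb, E_pr_left M t.pr t.n2,
          E_pr_of_ne M t.pr t.n1.symm t.n3]
        have key : ∀ u w : ZMod 2, u ≠ w → 1 + u = 0 + w := by decide
        exact key _ _ hE) d hd
      have e : v * d = b * (b * v * d) := by
        calc v * d = (b * b) * v * d := by rw [hbb, one_mul]
          _ = b * (b * v * d) := by group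
      rw [e]
      exact mul_mem hbQ h1
  -- **D**
  have hD : ∀ y ∈ KK p, ∀ z ∈ zc (o2 P), y * z * y⁻¹ = z ∨ y * z * y⁻¹ = z * p := by
    intro y hy z hz
    have h1 := (mem_KK.1 hy).2 z (by rw [← hQp]; exact hC hz)
    rcases (mem_zpowers_iff_of_sq hpp).1 h1 with e | e
    · left; exact mul_inv_eq_one.1 e
    · right
      rw [mul_inv_eq_iff_eq_mul] at e
      rw [e]; exact Sit.zz_comm hpz hz
  have hKN : KK p ≤ normalizer (zc (o2 P) : Set G) := by
    intro y hy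
    refine BTwo.mem_normalizer_of_conj fun z hz => ?_
    rcases hD y hy z hz with e | e
    · rw [e]; exact hz
    · rw [e]; exact mul_mem hz hpz
  -- **E**
  have hKQ : KK p ≤ Qp := by
    rw [hQp]
    exact KK_le_o2 hpp (MinSimple.Basic.char2_centralizer h.char2 (by rw [pow_two]; exact hpp) hp1)
  have hKp : IsPGroup 2 (KK p) := (by rw [hQp]; exact o2_isPGroup _ : IsPGroup 2 Qp).to_le hKQ
  have htp : ∀ s ∈ tn S M μ x, s * p = p * s := by
    intro s hs
    have h1 : s * n = n * s := by rw [hnd]; exact mem_centralizer_singleton_iff.1 hs.2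
    have h2 : s * c = c * s := (mem_zc.1 hcT).2.1 s hs
    rw [hp, ← mul_assoc, h1, mul_assoc, h2, mul_assoc]
  have htK : tn S M μ x ≤ normalizer (KK p : Set G) := by
    intro s hs
    refine BTwo.mem_normalizer_of_conj fun y hy => ?_
    have h1 := KK_conj (h := s) hy
    rwa [htp s hs, mul_inv_cancel_right] at h1
  have hRp : IsPGroup 2 (tn S M μ x ⊔ KK p : Subgroup G) :=
    IsPGroup.to_sup_of_normal_right' (S.isPGroup'.to_le inf_le_left) hKp htK
  have hRN : tn S M μ x ⊔ KK p ≤ normalizer (zc (o2 P) : Set G) :=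
    sup_le (fun s hs => h.P_le_NZZ (h.SP hs.1)) hKN
  -- **F**
  obtain ⟨w, hw, hwp⟩ := h.par t.pq t.n1
  have hwP := h.Qle t.pq t.n1 (h.KK_le t.pq t.n1 hw)
  have hκ : g * w * g⁻¹ ∈ KK p := by
    rw [← hga, hnd]; exact KK_conj hw
  have hwb : w * b * w⁻¹ = b * n := by
    rw [hb, hnd]
    refine h.conj_swap hwP t.pq hwp (pr_mem M _ _) ?_
    rw [E_pr_left M t.pr t.n2, E_pr_of_ne M t.pr t.n1.symm t.n3]
    exact one_ne_zero
  have hwc : w * c * w⁻¹ = c := by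
    have h1 : w ∈ h.XK (h.tri F hx) := mem_iSup_of_mem (0 : Fin 3) hw
    rw [hcX w h1, mul_inv_cancel_right]
  have hgb' : g⁻¹ * b * g = b * c := by
    have h2 : g * (b * c) * g⁻¹ = b := by
      calc g * (b * c) * g⁻¹ = (g * b * g⁻¹) * (g * c * g⁻¹) := by group
        _ = b := by rw [hgb, hgc', mul_assoc, hcc, mul_one]
    calc g⁻¹ * b * g = g⁻¹ * (g * (b * c) * g⁻¹) * g := by rw [h2]
      _ = b * c := by group
  have hκb : g * w * g⁻¹ * b * (g * w * g⁻¹)⁻¹ = b * p := by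
    calc g * w * g⁻¹ * b * (g * w * g⁻¹)⁻¹ = g * (w * (g⁻¹ * b * g) * w⁻¹) * g⁻¹ := by group
      _ = g * ((w * b * w⁻¹) * (w * c * w⁻¹)) * g⁻¹ := by rw [hgb']; group
      _ = (g * b * g⁻¹) * (g * n * g⁻¹) * (g * c * g⁻¹) := by rw [hwb, hwc]; group
      _ = b * c * p * c := by rw [hgb, hga, hgc']
      _ = b * (c * n) * (c * c) := by rw [hp]; group
      _ = b * p := by rw [hcc, mul_one, ← hnc, hp]
  -- **G**
  obtain ⟨q, hq, hpq⟩ := h.lemC_cen F zv hx hRp le_sup_left hRN (mem_sup_right hκ) (hD _ hκ)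
    ⟨b, h.VZ hbV, fun e => by
      have h1 : g * w * g⁻¹ * b * (g * w * g⁻¹)⁻¹ = b := mul_inv_eq_iff_eq_mul.2 e
      rw [hκb] at h1
      exact hp1 (mul_left_cancel (h1.trans (mul_one b).symm))⟩
  -- **H**
  obtain ⟨v, hv, d, hd, hvT, -, hcvd⟩ := h.zc_tn_dec F hx zv hcT
  have hd1 : d = 1 := by
    refine h.eq_one_of_DD ?_ hd
    have e : d = (n * v)⁻¹ * pr M q (μ q) := by
      rw [← hpq, hp, hcvd]; group
    rw [e]
    exact mul_mem (inv_mem (mul_mem hnV hv)) (pr_mem M _ _)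
  rw [hd1, mul_one] at hcvd
  obtain ⟨w', hw', hwp'⟩ := h.par t.pr t.n2
  have hwP' := h.Qle t.pr t.n2 (h.KK_le t.pr t.n2 hw')
  have h1 : w' ∈ h.XK (h.tri F hx) := mem_iSup_of_mem (1 : Fin 3) hw'
  have h2 := hcX w' h1
  rw [hcvd] at h2
  have h3 := (h.comm_iff hwP' hv).1 h2 x
  rw [hwp', Equiv.swap_apply_left, h.fix_zero F hx hv hvT] at h3
  have hE : E M (pr M q (μ q)) x = 1 := by
    rw [← hpq, hp, hcvd, Half.SymA.E_mul M hnV hv, ← h3, hnd, E_pr_left M t.pq t.n1, add_zero]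
  have hqμ : q.1 = (μ q).1 := (F.mfst q).symm
  have h4 : x = q ∨ x = μ q := by
    by_contra hcon
    push Not at hcon
    rw [E_pr_of_ne M hqμ hcon.1 hcon.2] at hE
    exact zero_ne_one hE
  have h5 : pr M q (μ q) = n := by
    rcases h4 with e | e
    · rw [← e, hnd]
    · have e2 : q = μ x := by rw [e, F.msq]
      rw [hnd, e2, F.msq, pr_comm M t.pq]
  rw [h5, hp] at hpq
  exact hc1 (mul_left_cancel (hpq.trans (mul_one n).symm))

end Fw

end Cfsg.Agent.Omega.IId.SymWrD.Hw
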