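import Cfsg.Agent.Omega.IId.SymWrD.Hw.SylK
import Cfsg.Agent.Omega.IId.SymWrD.Hw.SylEnd

/-!
# THEOREM SYL^ (bb OMEGA #21666, helper916; refereed #21848)

`h : Fw S P V D M` (no partner), `4 ≤ |Ω₁Z(S)|`, `L_0 = {1, n, 10, 20}`, `n = x μ(x)`, `T = C_S(n)`.
* `Fw.syl_hat` : a Sylow 2-subgroup `T^ ≥ T` of `N_G(L_0)` lies in `C_G(n)` and has odd index there;
* `Fw.exists_hat` : `T^` exists.
-/

set_option autoImplicit false
set_option linter.unusedSectionVars false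

namespace Cfsg.Agent.Omega.IId.SymWrD.Hw

open Subgroup Cfsg Cfsg.Agent.Omega.MinPar Cfsg.Agent.Omega.FFThm
open Cfsg.Agent.ZN (o2 zc)
open Cfsg.Agent.Omega.Half.SymA (Pt E Mv pm)
open Cfsg.Agent.Omega.HT.LineOf (Ln ln pts dd)
open Cfsg.Agent.Omega.IId.Triangle (KK mem_KK KK_conj)
open Ht (DD mem_DD Fr Tri tn)

universe u

variable {G : Type u} [Group G] [Finite G] {k m : ℕ}

namespace Fw

variable {S : Sylow 2 G} {P V D : Subgroup G} {M : SymK (S : Subgroup G) P V ⊥ k m} (h : Fw S P V D M)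
  {μ ν : Equiv.Perm (Pt k m)} (F : Fours M μ ν) {x : Pt k m} (hx : x.2 ≠ 0)
  (zv : zc (o2 P) ≤ V ⊔ DD M)
include h F hx zv

/-- **THEOREM SYL^** -/
theorem syl_hat (h4 : 4 ≤ Nat.card (zc (S : Subgroup G))) {T : Subgroup G} (hTT : tn S M μ x ≤ T)
    (hTp : IsPGroup 2 T) (hTN : T ≤ normalizer (ln (h.line3 (h.tri F hx)) : Set G))
    (hodd : ¬ 2 ∣ T.relIndex (normalizer (ln (h.line3 (h.tri F hx)) : Set G))) :
    T ≤ centralizer ({pr M x (μ x)} : Set G) ∧ ¬ 2 ∣ T.relIndex (centralizer ({pr M x (μ x)} : Set G)) := by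
  refine ⟨h.T_le_cen F hx hTT hTp hTN, fun hneg => ?_⟩
  obtain ⟨k, hk, hk1, hkX, g, hgk, hga, hgb⟩ := h.exists_k F hx zv hTT hTp hTN h4 hodd hneg
  have C := h.cf F hx zv hTT hTp hTN hodd
  exact h.syl_end F hx zv hTT hTp (fun R hR hTR hRN => C.max hR hTR hRN) hTN hk hk1 hkX hgk hga hgb

/-- `T^` exists. -/
theorem exists_hat (h4 : 4 ≤ Nat.card (zc (S : Subgroup G))) : ∃ T : Subgroup G, tn S M μ x ≤ T ∧ IsPGroup 2 T ∧
    T ≤ normalizer (ln (h.line3 (h.tri F hx)) : Set G) ∧ T ≤ centralizer ({pr M x (μ x)} : Set G) ∧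
    ¬ 2 ∣ T.relIndex (centralizer ({pr M x (μ x)} : Set G)) ∧
    ∀ t ∈ T, t * pr M x (x.1, 0) * t⁻¹ = pr M x (x.1, 0) ∨
      t * pr M x (x.1, 0) * t⁻¹ = pr M x (x.1, 0) * pr M x (μ x) := by
  obtain ⟨T, hTT, hTN, hTp, hodd⟩ := HT.exists_syl (S := tn S M μ x)
    (P := normalizer (ln (h.line3 (h.tri F hx)) : Set G)) (S.isPGroup'.to_le inf_le_left) (h.tn_norm F hx)
  obtain ⟨h1, h2⟩ := h.syl_hat F hx zv h4 hTT hTp hTN hodd
  refine ⟨T, hTT, hTp, hTN, h1, h2, fun t ht => ?_⟩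
  have C := h.cf F hx zv hTT hTp hTN hodd
  rcases C.act_T ht with e | e
  · exact Or.inl e
  · right; rw [e]; exact (h.line3 (h.tri F hx)).comm

end Fw

end Cfsg.Agent.Omega.IId.SymWrD.Hw
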