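import Cfsg.Agent.Omega.IId.SymWrD.Ht.LemC
import Cfsg.Agent.Omega.IId.SymWrD.SylN.Base

/-!
# II.d, `SwCv`, `D` arbitrary: the partner-free frame for THEOREM SYL^ (bb OMEGA #21666, helper916)

`Fw S P V D M` : `SitD` + characteristic 2 type + (H1) `O₂(C_G(n)) ≤ P` acts inside `⟨(p q)⟩` for all duads
`n = pr M p q` + `par` : some `w ∈ K_n` acts as `(p q)`.  `Fw.of_fr` : from `Ht.Fr`; `Fw.of_sd` : from `SD`.
The lemmas of `Ht/{Fr,Line,LemC}.lean` which do not use the partner, with `X = XK = ⟨K_r : r ∈ V_l#⟩`.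
-/

set_option autoImplicit false
set_option linter.unusedSectionVars false

namespace Cfsg.Agent.Omega.IId.SymWrD.Hw

open Subgroup Cfsg Cfsg.Agent.Omega.MinPar Cfsg.Agent.Omega.FFThm
open Cfsg.Agent.ZN (o2 zc)
open Cfsg.Agent.ZN.ChoiceBase (cj mem_cj)
open Cfsg.Agent.Omega.Half (Amb amb_of_loc)
open Cfsg.Agent.Omega.Half.SymA (Pt E Mv pm)
open Cfsg.Agent.Omega.HT.LineOf (Ln ln pts dd)
open Cfsg.Agent.Omega.IId.Triangle (KK mem_KK KK_conj KK_le_o2)
open Cfsg.Agent.MinSimple.VModule (le_normalizer_o2 o2_isPGroup o2_le mem_zc zc_le normalizer_le_normalizer_zc)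
open Cfsg.Agent.MinSimple.Geo (mem_o2_of_stab)
open Ht (DD mem_DD Fr Tri tn)

universe u

variable {G : Type u} [Group G] {k m : ℕ}

/-- The frame. -/
structure Fw (S : Sylow 2 G) (P V D : Subgroup G) (M : SymK (S : Subgroup G) P V ⊥ k m) : Prop
    extends SitD S P V D M where
  char2 : IsCharacteristicTwoType G
  Qle : ∀ {p q : Pt k m}, p.1 = q.1 → p ≠ q → o2 (centralizer ({pr M p q} : Set G)) ≤ P
  Qpp : ∀ {p q : Pt k m}, p.1 = q.1 → p ≠ q → ∀ {g : G}, g ∈ o2 (centralizer ({pr M p q} : Set G)) →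
    pp M g = 1 ∨ pp M g = Equiv.swap p q
  par : ∀ {p q : Pt k m}, p.1 = q.1 → p ≠ q → ∃ w ∈ KK (pr M p q), pp M w = Equiv.swap p q

/-- the frame of the T-T case -/
theorem Fw.of_fr [Finite G] {S : Sylow 2 G} {P V D : Subgroup G} {M : SymK (S : Subgroup G) P V ⊥ k m}
    (h : Fr S P V D M) : Fw S P V D M where
  toSitD := h.toSitD
  char2 := h.char2
  Qle := h.Qle
  Qpp := h.Qpp
  par := fun hpq hne => by
    obtain ⟨w, hw, -, e⟩ := h.exists_w hpq hne
    exact ⟨w, hw, e⟩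

/-- 666's frame -/
theorem Fw.of_sd [Finite G] {S : Sylow 2 G} {P V D : Subgroup G} {M : SymK (S : Subgroup G) P V ⊥ k m}
    (h0 : SitD S P V D M) (h : SD S P V M) : Fw S P V D M where
  toSitD := h0
  char2 := h.c2
  Qle := fun h1 h2 => h.QP _ _ h1 h2
  Qpp := fun h1 h2 _ hg => h.Qpp _ _ h1 h2 _ hg
  par := fun h1 h2 => h.par _ _ h1 h2

namespace Fw

variable {S : Sylow 2 G} {P V D : Subgroup G} {M : SymK (S : Subgroup G) P V ⊥ k m} (h : Fw S P V D M)
  {p q : Pt k m}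
include h

theorem pr_sq : pr M p q * pr M p q = 1 := h.Vsq (pr_mem M p q)

theorem pr_ne (hpq : p.1 = q.1) (hne : p ≠ q) : pr M p q ≠ 1 := fun e => by
  have h1 := E_pr_left M hpq hne
  rw [e, Half.SymA.E_one M] at h1
  exact zero_ne_one h1

/-- an element acting trivially or as `(p q)` commutes with the perp of the duad -/
theorem comm_perp_of {g : G} (hgP : g ∈ P) (hg : pp M g = 1 ∨ pp M g = Equiv.swap p q) {v : G} (hv : v ∈ V)
    (hE : E M v p = E M v q) : g * v = v * g := by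
  rw [h.comm_iff hgP hv]
  intro r
  rcases hg with e | e
  · rw [e]; rfl
  · rw [e]
    by_cases e1 : r = p
    · rw [e1, Equiv.swap_apply_left, hE]
    by_cases e2 : r = q
    · rw [e2, Equiv.swap_apply_right, hE]
    · rw [Equiv.swap_apply_of_ne_of_ne e1 e2]

theorem perp_comm (hpq : p.1 = q.1) (hne : p ≠ q) {g : G} (hg : g ∈ o2 (centralizer ({pr M p q} : Set G))) {v : G}
    (hv : v ∈ V) (hE : E M v p = E M v q) : g * v = v * g :=
  h.comm_perp_of (h.Qle hpq hne hg) (h.Qpp hpq hne hg) hv hE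

/-- the action of an element inducing `(p q)` -/
theorem conj_swap {g : G} (hgP : g ∈ P) (hpq : p.1 = q.1) (hg : pp M g = Equiv.swap p q) {v : G} (hv : v ∈ V)
    (hE : E M v p ≠ E M v q) : g * v * g⁻¹ = v * pr M p q := by
  refine Half.SymA.inj M (h.amb.conj_mem hgP hv) (mul_mem hv (pr_mem M _ _)) fun r => ?_
  have hne : p ≠ q := fun e => hE (by rw [e])
  rw [E_conj' hgP hv, Half.SymA.E_mul M hv (pr_mem M _ _), E_pr M hpq, hg, Equiv.swap_inv]
  have key : ∀ x y : ZMod 2, x ≠ y → y = x + 1 := by decide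
  by_cases e1 : r = p
  · rw [e1, Equiv.swap_apply_left, if_pos rfl, if_neg hne, add_zero]
    exact key _ _ hE
  by_cases e2 : r = q
  · rw [e2, Equiv.swap_apply_right, if_pos rfl, if_neg hne.symm, zero_add]
    exact key _ _ hE.symm
  · rw [Equiv.swap_apply_of_ne_of_ne e1 e2, if_neg e1, if_neg e2, add_zero, add_zero]

/-- `[O₂(C_G(n)), V] ≤ ⟨n⟩` -/
theorem comm_mem (hpq : p.1 = q.1) (hne : p ≠ q) {g : G} (hg : g ∈ o2 (centralizer ({pr M p q} : Set G))) {v : G}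
    (hv : v ∈ V) : g * v * g⁻¹ = v ∨ g * v * g⁻¹ = v * pr M p q := by
  by_cases hE : E M v p = E M v q
  · left; rw [h.perp_comm hpq hne hg hv hE]; group
  · rcases h.Qpp hpq hne hg with e | e
    · left
      rw [h.comm_perp_of (p := p) (q := p) (h.Qle hpq hne hg) (Or.inl e) hv rfl]; group
    · right; exact h.conj_swap (h.Qle hpq hne hg) hpq e hv hE

/-- `V ≤ K_n` -/
theorem V_le_KK (hpq : p.1 = q.1) (hne : p ≠ q) : V ≤ KK (pr M p q) := by
  intro v hv
  refine mem_KK.2 ⟨h.Vcomm hv (pr_mem M p q), fun g hg => ?_⟩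
  have hvi : ∀ {x : G}, x ∈ V → x⁻¹ = x := fun hx => inv_eq_of_mul_eq_one_left (h.Vsq hx)
  have e : v * g * v⁻¹ * g⁻¹ = v * (g * v * g⁻¹)⁻¹ := by group
  rw [e]
  rcases h.comm_mem hpq hne hg hv with e1 | e1
  · rw [e1, mul_inv_cancel]; exact one_mem _
  · have e2 : v * (v * pr M p q)⁻¹ = (pr M p q)⁻¹ := by
      rw [h.Vcomm hv (pr_mem M p q)]; group
    rw [e1, e2]; exact inv_mem (mem_zpowers _)

section fin

variable [Finite G]

theorem KK_le (hpq : p.1 = q.1) (hne : p ≠ q) : KK (pr M p q) ≤ o2 (centralizer ({pr M p q} : Set G)) := by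
  intro g hg
  have h1 := mem_KK.1 hg
  exact mem_o2_of_stab h.char2 h.pr_sq (h.pr_ne hpq hne) (mem_centralizer_singleton_iff.2 h1.1) h1.2

/-- `V ≤ O₂(C_G(n))` -/
theorem V_le (hpq : p.1 = q.1) (hne : p ≠ q) : V ≤ o2 (centralizer ({pr M p q} : Set G)) :=
  (h.V_le_KK hpq hne).trans (h.KK_le hpq hne)

/-- the elements of `V` commuting with `(p q)` lie in `Ω₁Z(O₂(C_G(n)))` -/
theorem perp (hpq : p.1 = q.1) (hne : p ≠ q) {v : G} (hv : v ∈ V) (hE : E M v p = E M v q) :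
    v ∈ zc (o2 (centralizer ({pr M p q} : Set G))) :=
  mem_zc.2 ⟨h.V_le hpq hne hv, fun g hg => h.perp_comm hpq hne hg hv hE, by rw [pow_two]; exact h.Vsq hv⟩

end fin

end Fw

namespace Fw

variable {S : Sylow 2 G} {P V D : Subgroup G} {M : SymK (S : Subgroup G) P V ⊥ k m} (h : Fw S P V D M)
  {p q r : Pt k m}
include h

/-- the line of three points -/
theorem line3 (t : Tri p q r) : Ln (pr M p q) (pr M p r) where
  aa := h.pr_sq
  bb := h.pr_sq
  comm := h.Vcomm (pr_mem M _ _) (pr_mem M _ _)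
  a1 := h.pr_ne t.pq t.n1
  b1 := h.pr_ne t.pr t.n2
  ne := fun e => by
    have h1 : E M (pr M p q) q = 1 := E_pr_right M t.pq t.n1
    rw [e, E_pr_of_ne M t.pr t.n1.symm t.n3] at h1
    exact zero_ne_one h1

theorem dd_two (t : Tri p q r) : pr M p q * pr M p r = pr M q r := by
  rw [pr_comm M t.pq, pr_mul M t.pq.symm t.pr]

/-- the three points -/
theorem dd_cases (t : Tri p q r) (i : Fin 3) : ∃ a b c : Pt k m, a.1 = b.1 ∧ a.1 = c.1 ∧ a ≠ b ∧ a ≠ c ∧ b ≠ c ∧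
    dd (pr M p q) (pr M p r) i = pr M a b ∧ (∃ j, dd (pr M p q) (pr M p r) j = pr M a c) ∧
    (a = p ∨ a = q ∨ a = r) ∧ (b = p ∨ b = q ∨ b = r) := by
  fin_cases i
  · exact ⟨p, q, r, t.pq, t.pr, t.n1, t.n2, t.n3, rfl, ⟨1, rfl⟩, Or.inl rfl, Or.inr (Or.inl rfl)⟩
  · exact ⟨p, r, q, t.pr, t.pq, t.n2, t.n1, t.n3.symm, rfl, ⟨0, rfl⟩, Or.inl rfl, Or.inr (Or.inr rfl)⟩
  · refine ⟨q, r, p, t.qr, t.pq.symm, t.n3, t.n1.symm, t.n2.symm, h.dd_two t, ⟨0, pr_comm M t.pq⟩,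
      Or.inr (Or.inl rfl), Or.inr (Or.inr rfl)⟩

theorem dd_mem_V (t : Tri p q r) (i : Fin 3) : dd (pr M p q) (pr M p r) i ∈ V := by
  obtain ⟨a, b, c, -, -, -, -, -, e, -⟩ := h.dd_cases t i
  rw [e]; exact pr_mem M a b

theorem ln_le (t : Tri p q r) : ln (h.line3 t) ≤ V := by
  rintro x (rfl | ⟨i, rfl⟩)
  · exact one_mem _
  · exact h.dd_mem_V t i

variable [Finite G]

/-- `X = ⟨K_r : r ∈ V_l#⟩` -/
noncomputable abbrev XK (_ : Fw S P V D M) (_ : Tri p q r) : Subgroup G := ⨆ i : Fin 3, KK (dd (pr M p q) (pr M p r) i)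

/-- `X` lies in every subgroup containing the `O₂(C_G(x))` -/
theorem X_le (t : Tri p q r) {H : Subgroup G}
    (hH : ∀ a b : Pt k m, (a = p ∨ a = q ∨ a = r) → (b = p ∨ b = q ∨ b = r) → a.1 = b.1 → a ≠ b →
      o2 (centralizer ({pr M a b} : Set G)) ≤ H) : h.XK t ≤ H := by
  refine iSup_le fun i => ?_
  obtain ⟨a, b, c, e1, -, e2, -, -, e, -, ha, hb⟩ := h.dd_cases t i
  rw [e]
  exact (h.KK_le e1 e2).trans (hH a b ha hb e1 e2)

theorem X_le_P (t : Tri p q r) : h.XK t ≤ P := h.X_le t fun _ _ _ _ h1 h2 => h.Qle h1 h2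

/-- `X` moves only `p, q, r` -/
theorem X_fix (t : Tri p q r) {g : G} (hg : g ∈ h.XK t) {s : Pt k m} (h1 : s ≠ p) (h2 : s ≠ q) (h3 : s ≠ r) :
    pp M g s = s := by
  let H : Subgroup G :=
    { carrier := {g | g ∈ P ∧ pp M g s = s}
      one_mem' := ⟨one_mem _, by rw [h.one]; rfl⟩
      mul_mem' := by
        rintro a b ⟨ha, ha1⟩ ⟨hb, hb1⟩
        refine ⟨mul_mem ha hb, ?_⟩
        rw [h.mul ha hb, Equiv.Perm.mul_apply, hb1, ha1]
      inv_mem' := by
        rintro a ⟨ha, ha1⟩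
        refine ⟨inv_mem ha, ?_⟩
        rw [h.inv ha, Equiv.Perm.inv_eq_iff_eq, ha1] }
  have hle : h.XK t ≤ H := by
    refine h.X_le t fun a b ha hb e1 e2 y hy => ⟨h.Qle e1 e2 hy, ?_⟩
    have hsa : s ≠ a := by rcases ha with rfl | rfl | rfl <;> assumption
    have hsb : s ≠ b := by rcases hb with rfl | rfl | rfl <;> assumption
    rcases h.Qpp e1 e2 hy with e | e
    · rw [e]; rfl
    · rw [e, Equiv.swap_apply_of_ne_of_ne hsa hsb]
  exact (hle hg).2

/-- `X` centralises the elements of `V` which are constant on `p, q, r` -/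
theorem X_comm (t : Tri p q r) {v : G} (hv : v ∈ V) (h1 : E M v p = E M v q) (h2 : E M v p = E M v r) {g : G}
    (hg : g ∈ h.XK t) : g * v = v * g := by
  have hle : h.XK t ≤ centralizer ({v} : Set G) := by
    refine h.X_le t fun a b ha hb e1 e2 y hy => ?_
    rw [mem_centralizer_singleton_iff]
    refine h.perp_comm e1 e2 hy hv ?_
    have key : ∀ c, (c = p ∨ c = q ∨ c = r) → E M v c = E M v p := by
      rintro c (rfl | rfl | rfl)
      · rfl
      · exact h1.symm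
      · exact h2.symm
    rw [key a ha, key b hb]
  exact mem_centralizer_singleton_iff.1 (hle hg)

/-- `X` preserves the summands -/
theorem X_fst (t : Tri p q r) {g : G} (hg : g ∈ h.XK t) (s : Pt k m) : (pp M g s).1 = s.1 := by
  have hgP := h.X_le_P t hg
  -- a point of the summand which is fixed, or the summand of `p`
  let H : Subgroup G :=
    { carrier := {g | g ∈ P ∧ ∀ s, (pp M g s).1 = s.1}
      one_mem' := ⟨one_mem _, fun s => by rw [h.one]; rfl⟩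
      mul_mem' := by
        rintro a b ⟨ha, ha1⟩ ⟨hb, hb1⟩
        refine ⟨mul_mem ha hb, fun s => ?_⟩
        rw [h.mul ha hb, Equiv.Perm.mul_apply, ha1, hb1]
      inv_mem' := by
        rintro a ⟨ha, ha1⟩
        refine ⟨inv_mem ha, fun s => ?_⟩
        have h1 := ha1 ((pp M a)⁻¹ s)
        rw [show pp M a ((pp M a)⁻¹ s) = s from (pp M a).apply_symm_apply s] at h1
        rw [h.inv ha]
        exact h1.symm }
  have hle : h.XK t ≤ H := by
    refine h.X_le t fun a b _ _ e1 e2 y hy => ⟨h.Qle e1 e2 hy, fun s => ?_⟩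
    rcases h.Qpp e1 e2 hy with e | e
    · rw [e]; rfl
    · rw [e]
      by_cases h1 : s = a
      · rw [h1, Equiv.swap_apply_left, e1]
      by_cases h2 : s = b
      · rw [h2, Equiv.swap_apply_right, e1]
      · rw [Equiv.swap_apply_of_ne_of_ne h1 h2]
  exact (hle hg).2 s

/-- `X` centralises `DD M` -/
theorem X_DD (t : Tri p q r) {d : G} (hd : d ∈ DD M) {g : G} (hg : g ∈ h.XK t) : g * d = d * g :=
  (mem_DD.1 hd).2 g (h.X_le_P t hg) (h.X_fst t hg)

end Fw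

namespace Fw

variable {S : Sylow 2 G} {P V D : Subgroup G} {M : SymK (S : Subgroup G) P V ⊥ k m} (h : Fw S P V D M)
  {μ ν : Equiv.Perm (Pt k m)} (F : Fours M μ ν) {x : Pt k m} (hx : x.2 ≠ 0)
include h F hx

/-- the points `x`, `μ x`, `0` -/
theorem tri : Tri x (μ x) (x.1, 0) where
  pq := (F.mfst x).symm
  pr := rfl
  n1 := (F.mne x hx).symm
  n2 := fun e => hx (congrArg Prod.snd e)
  n3 := fun e => hx (F.mnz.1 (congrArg Prod.snd e))

theorem tn_pp {s : G} (hs : s ∈ tn S M μ x) : (pp M s x = x ∧ pp M s (μ x) = μ x) ∨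
    (pp M s x = μ x ∧ pp M s (μ x) = x) := by
  have t := h.tri F hx
  have hsP := h.SP hs.1
  have h1 := (h.comm_iff hsP (pr_mem M x (μ x))).1 (mem_centralizer_singleton_iff.1 hs.2)
  have key : ∀ c, E M (pr M x (μ x)) c = 1 → c = x ∨ c = μ x := by
    intro c hc
    by_contra hcon
    push Not at hcon
    rw [E_pr_of_ne M t.pq hcon.1 hcon.2] at hc
    exact zero_ne_one hc
  have h2 := key _ ((h1 x).trans (E_pr_left M t.pq t.n1))
  have h3 := key _ ((h1 (μ x)).trans (E_pr_right M t.pq t.n1))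
  rcases h2 with h2 | h2
  · exact Or.inl ⟨h2, h3.resolve_left fun e => t.n1 ((pp M s).injective (h2.trans e.symm))⟩
  · exact Or.inr ⟨h2, h3.resolve_right fun e => t.n1 ((pp M s).injective (h2.trans e.symm))⟩

omit h F hx in
theorem zero_eq {y z : Pt k m} (h1 : y.1 = z.1) (h2 : y.2 = 0) : y = (z.1, 0) := Prod.ext h1 h2

/-- the fixed point of `S` in the summand is fixed -/
theorem tn_zero {s : G} (hs : s ∈ tn S M μ x) : pp M s (x.1, 0) = (x.1, 0) := by
  have hsP := h.SP hs.1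
  have h1 : (pp M s (x.1, 0)).2 = 0 := (h.snd hs.1).2 rfl
  have h2 : (pp M s (x.1, 0)).1 = (pp M s x).1 := h.fst hsP rfl
  have h3 : (pp M s x).1 = x.1 := by
    rcases h.tn_pp F hx hs with e | e
    · rw [e.1]
    · rw [e.1, F.mfst]
  exact Prod.ext (h2.trans h3) h1

/-- `T` normalises the line -/
theorem tn_norm [Finite G] : tn S M μ x ≤ normalizer (ln (h.line3 (h.tri F hx)) : Set G) := by
  have t := h.tri F hx
  intro s hs
  have hsP := h.SP hs.1
  refine BTwo.mem_normalizer_of_conj ?_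
  have h0 := h.tn_zero F hx hs
  have e0 : dd (pr M x (μ x)) (pr M x (x.1, 0)) 0 = pr M x (μ x) := rfl
  have e1 : dd (pr M x (μ x)) (pr M x (x.1, 0)) 1 = pr M x (x.1, 0) := rfl
  have e2 : dd (pr M x (μ x)) (pr M x (x.1, 0)) 2 = pr M (μ x) (x.1, 0) := h.dd_two t
  rintro y (rfl | ⟨i, rfl⟩)
  · left; group
  · right
    have k0 : s * pr M x (μ x) * s⁻¹ = pr M (pp M s x) (pp M s (μ x)) := h.conj_pr hsP t.pq
    have k1 : s * pr M x (x.1, 0) * s⁻¹ = pr M (pp M s x) (pp M s (x.1, 0)) := h.conj_pr hsP t.pr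
    have k2 : s * pr M (μ x) (x.1, 0) * s⁻¹ = pr M (pp M s (μ x)) (pp M s (x.1, 0)) := h.conj_pr hsP t.qr
    rw [h0] at k1 k2
    rcases h.tn_pp F hx hs with ⟨a1, a2⟩ | ⟨a1, a2⟩
    · rw [a1, a2] at k0
      rw [a1] at k1
      rw [a2] at k2
      fin_cases i
      · exact ⟨0, k0⟩
      · exact ⟨1, k1⟩
      · refine ⟨2, ?_⟩
        show s * dd (pr M x (μ x)) (pr M x (x.1, 0)) 2 * s⁻¹ = _
        rw [e2, k2]
    · rw [a1, a2, pr_comm M t.pq.symm] at k0
      rw [a1] at k1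
      rw [a2] at k2
      fin_cases i
      · exact ⟨0, k0⟩
      · refine ⟨2, ?_⟩
        rw [e2]; exact k1
      · refine ⟨1, ?_⟩
        show s * dd (pr M x (μ x)) (pr M x (x.1, 0)) 2 * s⁻¹ = _
        rw [e2, k2, e1]

theorem V_le_tn : V ≤ tn S M μ x := fun _ hv =>
  ⟨h.VS hv, mem_centralizer_singleton_iff.2 (h.Vcomm hv (pr_mem M _ _))⟩

theorem Q_le_tn : o2 P ≤ tn S M μ x := fun y hy => by
  refine ⟨h.QS hy, mem_centralizer_singleton_iff.2 ?_⟩
  have h1 : y ∈ centralizer (V : Set G) := by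
    have := h.Q_eq ▸ hy
    exact this.2
  exact (mem_centralizer_iff.1 h1 _ (pr_mem M _ _)).symm

/-- the elements of `T` acting as `(c μ(c))` -/
theorem exists_swap [Finite G] {c : Pt k m} (hc : c.2 ≠ 0) : ∃ s ∈ tn S M μ x, pp M s = Equiv.swap c (μ c) := by
  have hmem : Equiv.swap c (μ c) ∈ F.FA := by
    intro y
    by_cases h1 : y = c
    · rw [h1, Equiv.swap_apply_left]; exact Or.inr rfl
    by_cases h2 : y = μ c
    · rw [h2, Equiv.swap_apply_right, F.msq]; exact Or.inr rfl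
    · rw [Equiv.swap_apply_of_ne_of_ne h1 h2]; exact Or.inl rfl
  obtain ⟨s, hs, e⟩ := Fours.exists_A h.toSit F hmem
  refine ⟨s, ⟨hs.1, mem_centralizer_singleton_iff.2 (h.comm_pr (h.SP hs.1) (F.mfst x).symm ?_)⟩, e⟩
  rw [e]
  by_cases h1 : x = c
  · right
    rw [← h1, Equiv.swap_apply_left, Equiv.swap_apply_right]
    exact ⟨rfl, rfl⟩
  by_cases h2 : x = μ c
  · right
    have h3 : c = μ x := by rw [h2, F.msq]
    rw [← h3, ← h2, Equiv.swap_apply_right, Equiv.swap_apply_left]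
    exact ⟨rfl, rfl⟩
  · left
    have h3 : μ x ≠ c := fun e => h2 (by rw [← e, F.msq])
    have h4 : μ x ≠ μ c := fun e => h1 (μ.injective e)
    exact ⟨Equiv.swap_apply_of_ne_of_ne h1 h2, Equiv.swap_apply_of_ne_of_ne h3 h4⟩

/-- an element of `V` commuting with `T` is constant on the pairs -/
theorem fix_mu [Finite G] {v : G} (hv : v ∈ V) (hT : ∀ s ∈ tn S M μ x, s * v = v * s) (c : Pt k m) :
    E M v (μ c) = E M v c := by
  by_cases hc : c.2 = 0
  · rw [F.mzero c hc]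
  obtain ⟨s, hs, e⟩ := h.exists_swap F hx hc
  have h1 := (h.comm_iff (h.SP hs.1) hv).1 (hT s hs) c
  rwa [e, Equiv.swap_apply_left] at h1

/-- an element of `V` commuting with `T` is `0` on the fixed points -/
theorem fix_zero [Finite G] {v : G} (hv : v ∈ V) (hT : ∀ s ∈ tn S M μ x, s * v = v * s) (i : Fin k) :
    E M v (i, 0) = 0 := by
  have h1 : ∑ y, E M v (i, y) = 0 := M.even v hv i
  have h2 : ∑ y ∈ Finset.univ.erase (0 : Fin (2 ^ m + 1)), E M v (i, y) = 0 := by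
    refine Finset.sum_involution (fun y _ => (μ (i, y)).2) ?_ ?_ ?_ ?_
    · intro y _
      have e : ((i, (μ (i, y)).2) : Pt k m) = μ (i, y) := Prod.ext (F.mfst (i, y)).symm rfl
      rw [e, h.fix_mu F hx hv hT]
      exact CharTwo.add_self_eq_zero _
    · intro y hy hne e
      have hy0 : ((i, y) : Pt k m).2 ≠ 0 := (Finset.mem_erase.1 hy).1
      exact F.mne (i, y) hy0 (Prod.ext (F.mfst (i, y)) e)
    · intro y hy
      have hy0 : ((i, y) : Pt k m).2 ≠ 0 := (Finset.mem_erase.1 hy).1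
      exact Finset.mem_erase.2 ⟨fun e => hy0 (F.mnz.1 e), Finset.mem_univ _⟩
    · intro y hy
      have e : ((i, (μ (i, y)).2) : Pt k m) = μ (i, y) := Prod.ext (F.mfst (i, y)).symm rfl
      show (μ (i, (μ (i, y)).2)).2 = y
      rw [e, F.msq]
  rw [← Finset.add_sum_erase _ _ (Finset.mem_univ (0 : Fin (2 ^ m + 1))), h2, add_zero] at h1
  exact h1

/-- an involution centralising `O₂(P)` lies in `Ω₁Z(O₂(P))` -/
theorem mem_zc_of {z : G} (hz : z * z = 1) (hQ : ∀ y ∈ o2 P, y * z = z * y) : z ∈ zc (o2 P) :=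
  mem_zc.2 ⟨h.cQ (mem_centralizer_iff.2 fun y hy => hQ y hy), fun y hy => hQ y hy, by rw [pow_two]; exact hz⟩

theorem zc_tn_le : zc (tn S M μ x) ≤ zc (o2 P) := fun z hz => by
  have h1 := mem_zc.1 hz
  exact h.mem_zc_of F hx (by rw [← pow_two]; exact h1.2.2) fun y hy => h1.2.1 y (h.Q_le_tn F hx hy)

omit F hx in
/-- `DD M` is normalised by `P` -/
theorem DD_conj {g d : G} (hg : g ∈ P) (hd : d ∈ DD M) : g * d * g⁻¹ ∈ DD M := by
  have h1 := mem_DD.1 hd
  refine mem_DD.2 ⟨Sit.zz_conj hg h1.1, fun y hy hy1 => ?_⟩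
  have hgi := inv_mem hg
  have h2 := h1.2 (g⁻¹ * y * g) (mul_mem (mul_mem hgi hy) hg) fun r => ?_
  · calc y * (g * d * g⁻¹) = g * (g⁻¹ * y * g * d) * g⁻¹ := by group
      _ = g * (d * (g⁻¹ * y * g)) * g⁻¹ := by rw [h2]
      _ = g * d * g⁻¹ * y := by group
  · have e : pp M (g⁻¹ * y * g) = (pp M g)⁻¹ * pp M y * pp M g := by
      rw [h.mul (mul_mem hgi hy) hg, h.mul hgi hy, h.inv hg]
    rw [e, Equiv.Perm.mul_apply, Equiv.Perm.mul_apply]
    have h3 : ((pp M y) (pp M g r)).1 = (pp M g r).1 := hy1 _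
    have h4 := h.fst hgi h3
    rw [h.inv hg] at h4
    rw [h4, show (pp M g)⁻¹ (pp M g r) = r from (pp M g).symm_apply_apply r]

omit F hx in
/-- `V ∩ DD M = 1` -/
theorem eq_one_of_DD {v : G} (hv : v ∈ V) (hd : v ∈ DD M) : v = 1 := by
  classical
  refine Half.SymA.inj M hv (one_mem V) fun r => ?_
  rw [Half.SymA.E_one M]
  -- all coordinates in a summand are equal
  have key : ∀ s t : Pt k m, s.1 = t.1 → E M v s = E M v t := by
    intro s t hst
    obtain ⟨g, hg, hgp⟩ := h.exists_pp (π := Equiv.swap s t) fun p => by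
      by_cases h1 : p = s
      · rw [h1, Equiv.swap_apply_left, hst]
      by_cases h2 : p = t
      · rw [h2, Equiv.swap_apply_right, hst]
      · rw [Equiv.swap_apply_of_ne_of_ne h1 h2]
    have h1 := (mem_DD.1 hd).2 g hg fun p => by
      rw [hgp]
      by_cases h1 : p = s
      · rw [h1, Equiv.swap_apply_left, hst]
      by_cases h2 : p = t
      · rw [h2, Equiv.swap_apply_right, hst]
      · rw [Equiv.swap_apply_of_ne_of_ne h1 h2]
    have h2 := (h.comm_iff hg hv).1 h1 t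
    rw [hgp, Equiv.swap_apply_right] at h2
    exact h2
  have h1 : ∑ y, E M v (r.1, y) = 0 := M.even v hv r.1
  have h2 : ∑ y, E M v (r.1, y) = ∑ _y : Fin (2 ^ m + 1), E M v r :=
    Finset.sum_congr rfl fun y _ => key _ _ rfl
  rw [h2, Finset.sum_const, Finset.card_univ, Fintype.card_fin] at h1
  have h3 : (2 ^ m + 1) • E M v r = E M v r := by
    rw [add_smul, one_smul, nsmul_eq_mul]
    have h4 : ((2 ^ m : ℕ) : ZMod 2) = 0 := by
      rw [ZMod.natCast_eq_zero_iff]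
      exact dvd_pow_self 2 (by have := h.hm1; omega)
    rw [h4, zero_mul, zero_add]
  rwa [h3] at h1

variable (zv : zc (o2 P) ≤ V ⊔ DD M)
include zv

omit F hx in
/-- `Ω₁Z(O₂(P)) = V × DD M` -/
theorem zz_dec {z : G} (hz : z ∈ zc (o2 P)) : ∃ v ∈ V, ∃ d ∈ DD M, z = v * d := by
  have hn : (DD M : Subgroup G) ≤ normalizer (V : Set G) := by
    intro d hd
    have h1 : d ∈ P := o2_le P (zc_le _ (mem_DD.1 hd).1)
    exact h.amb.HV h1
  obtain ⟨d, hd, v, hv, rfl⟩ := mem_sup_norm hn (by rw [sup_comm]; exact zv hz)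
  exact ⟨v, hv, d, hd, Sit.zz_comm (mem_DD.1 hd).1 (h.VZ hv)⟩

/-- the components of an element of `Ω₁Z(T)` commute with `T` -/
theorem zc_tn_dec {z : G} (hz : z ∈ zc (tn S M μ x)) : ∃ v ∈ V, ∃ d ∈ DD M,
    (∀ s ∈ tn S M μ x, s * v = v * s) ∧ (∀ s ∈ tn S M μ x, s * d = d * s) ∧ z = v * d := by
  obtain ⟨v, hv, d, hd, e⟩ := h.zz_dec zv (h.zc_tn_le F hx hz)
  have key : ∀ s ∈ tn S M μ x, s * v * s⁻¹ = v ∧ s * d * s⁻¹ = d := by
    intro s hs
    have hsP := h.SP hs.1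
    have h1 := (mem_zc.1 hz).2.1 s hs
    have h2 : s * v * s⁻¹ * (s * d * s⁻¹) = v * d := by
      rw [← e]
      calc s * v * s⁻¹ * (s * d * s⁻¹) = s * (v * d) * s⁻¹ := by group
        _ = z := by rw [← e, h1]; group
    have hv' := h.amb.conj_mem hsP hv
    have hd' := h.DD_conj hsP hd
    have h3 : v⁻¹ * (s * v * s⁻¹) = d * (s * d * s⁻¹)⁻¹ := by
      rw [inv_mul_eq_iff_eq_mul, ← mul_assoc, ← h2]
      group
    have h4 : v⁻¹ * (s * v * s⁻¹) = 1 :=
      h.eq_one_of_DD (mul_mem (inv_mem hv) hv') (by rw [h3]; exact mul_mem hd (inv_mem hd'))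
    have h5 : s * v * s⁻¹ = v := (inv_mul_eq_one.1 h4).symm
    refine ⟨h5, ?_⟩
    rw [h5] at h2
    exact mul_left_cancel h2
  exact ⟨v, hv, d, hd, fun s hs => mul_inv_eq_iff_eq_mul.1 (key s hs).1,
    fun s hs => mul_inv_eq_iff_eq_mul.1 (key s hs).2, e⟩

/-- `Ω₁Z(T) = ⟨n⟩ Z₀` -/
theorem hdec [Finite G] {z : G} (hz : z ∈ zc (tn S M μ x)) : ∃ v ∈ ln (h.line3 (h.tri F hx)), ∃ c,
    (∀ y ∈ h.XK (h.tri F hx), y * c = c * y) ∧ (∀ t ∈ tn S M μ x, t * c = c * t) ∧ z = v * c := by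
  have t := h.tri F hx
  obtain ⟨v, hv, d, hd, hvT, hdT, rfl⟩ := h.zc_tn_dec F hx zv hz
  have h0 := h.fix_zero F hx hv hvT x.1
  have h1 := h.fix_mu F hx hv hvT x
  have hdX : ∀ y ∈ h.XK t, y * d = d * y := fun y hy => h.X_DD t hd hy
  have hmulc : ∀ {y a b : G}, y * a = a * y → y * b = b * y → y * (a * b) = a * b * y := by
    intro y a b h2 h3
    rw [← mul_assoc, h2, mul_assoc, h3, mul_assoc]
  by_cases hE : E M v x = 0
  · refine ⟨1, one_mem _, v * d, fun y hy => ?_, fun s hs => ?_, (one_mul _).symm⟩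
    · exact hmulc (h.X_comm t hv h1.symm (by rw [hE, h0]) hy) (hdX y hy)
    · exact hmulc (hvT s hs) (hdT s hs)
  · have hE1 : E M v x = 1 := by
      have : ∀ y : ZMod 2, y ≠ 0 → y = 1 := by decide
      exact this _ hE
    have hn := pr_mem M x (μ x)
    have hV := mul_mem hn hv
    have hadd := Half.SymA.E_mul M hn hv
    refine ⟨pr M x (μ x), (h.line3 t).dd_mem 0, pr M x (μ x) * v * d, fun y hy => hmulc (h.X_comm t hV ?_ ?_ hy)
      (hdX y hy), ?_, ?_⟩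
    · rw [hadd, hadd, E_pr_left M t.pq t.n1, E_pr_right M t.pq t.n1, h1]
    · rw [hadd, hadd, E_pr_left M t.pq t.n1, E_pr_of_ne M t.pq t.n2.symm t.n3.symm, h0, hE1]
      decide
    · intro s hs
      exact hmulc (hmulc (mem_centralizer_singleton_iff.1 hs.2) (hvT s hs)) (hdT s hs)
    · rw [← mul_assoc, ← mul_assoc, h.pr_sq, one_mul]

end Fw


namespace Fw

variable {S : Sylow 2 G} {P V D : Subgroup G} {M : SymK (S : Subgroup G) P V ⊥ k m} (h : Fw S P V D M)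
  {μ ν : Equiv.Perm (Pt k m)} (F : Fours M μ ν)
include h

theorem pp_zero {s : G} (hs : s ∈ (S : Subgroup G)) (c : Pt k m) : pp M s (c.1, 0) = ((pp M s c).1, 0) :=
  Prod.ext (h.fst (h.SP hs) rfl) ((h.snd hs).2 rfl)

theorem conj_zz {s : G} (hs : s ∈ (S : Subgroup G)) (c : Pt k m) :
    s * pr M (c.1, 0) c * s⁻¹ = pr M ((pp M s c).1, 0) (pp M s c) := by
  rw [h.conj_pr (h.SP hs) (p := (c.1, 0)) (q := c) rfl, h.pp_zero hs]

omit h in
open scoped Classical in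
theorem E_zz (M : SymK (S : Subgroup G) P V ⊥ k m) {c q : Pt k m} (hq : q.2 ≠ 0) :
    E M (pr M (c.1, 0) c) q = if q = c then 1 else 0 := by
  rw [E_pr M (p := (c.1, 0)) (q := c) rfl, if_neg (fun h0 : q = (c.1, 0) => hq (by rw [h0])), zero_add]

omit h in
theorem exists_pt4 (hm : 2 ≤ m) (l : Fin k) (s : Finset (Pt k m)) (hs : s.card ≤ 4) :
    ∃ p : Pt k m, p.1 = l ∧ p ∉ s := by
  classical
  by_contra hcon
  push Not at hcon
  have h1 : (Finset.univ : Finset (Fin (2 ^ m + 1))).image (fun x => ((l, x) : Pt k m)) ⊆ s := by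
    intro p hp
    obtain ⟨x, -, rfl⟩ := Finset.mem_image.1 hp
    exact hcon _ rfl
  have h2 := Finset.card_le_card h1
  rw [Finset.card_image_of_injective _ (fun x y hxy => (Prod.mk.inj hxy).2), Finset.card_univ, Fintype.card_fin] at h2
  have h3 : 2 ^ 2 ≤ 2 ^ m := Nat.pow_le_pow_right (by norm_num) hm
  omega

include F in
/-- **The centres of the elements of `S` acting as transvections on `V`.** -/
theorem trv {s r : G} (hs : s ∈ (S : Subgroup G)) (h1 : ∀ v ∈ V, s * v * s⁻¹ = v ∨ s * v * s⁻¹ = v * r)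
    (h2 : ∃ c : Pt k m, c.2 ≠ 0 ∧ pp M s c ≠ c) :
    ∃ c : Pt k m, c.2 ≠ 0 ∧ r = pr M c (μ c) ∧ pp M s c = μ c := by
  classical
  -- the moved points
  have hr : ∀ c : Pt k m, c.2 ≠ 0 → pp M s c ≠ c →
      r = pr M (c.1, 0) c * pr M ((pp M s c).1, 0) (pp M s c) := by
    intro c hc hmv
    have h3 : s * pr M (c.1, 0) c * s⁻¹ = pr M (c.1, 0) c * r := by
      refine (h1 _ (pr_mem M _ _)).resolve_left fun h0 => ?_
      rw [h.conj_zz hs] at h0
      have h4 := congrArg (fun v => E M v c) h0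
      simp only [E_zz M hc] at h4
      rw [if_neg hmv.symm] at h4
      exact zero_ne_one h4
    rw [h.conj_zz hs] at h3
    rw [h3, ← mul_assoc, h.Vsq (pr_mem M _ _), one_mul]
  have hEr : ∀ c : Pt k m, c.2 ≠ 0 → pp M s c ≠ c → ∀ q : Pt k m, q.2 ≠ 0 →
      E M r q = (if q = c then 1 else 0) + (if q = pp M s c then 1 else 0) := by
    intro c hc hmv q hq
    rw [hr c hc hmv, Half.SymA.E_mul M (pr_mem M _ _) (pr_mem M _ _), E_zz M hq, E_zz M hq]
  obtain ⟨c, hc, hmv⟩ := h2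
  have hEc : E M r c = 1 := by
    rw [hEr c hc hmv c hc, if_neg hmv.symm, if_pos rfl, add_zero]
  -- step 1
  have hblk : (pp M s c).1 = c.1 := by
    by_contra hne
    obtain ⟨c₂, hc₂, hc₂s⟩ := exists_pt4 h.hm c.1 ({(c.1, 0), c} : Finset (Pt k m))
      (Finset.card_le_two.trans (by norm_num))
    rw [Finset.mem_insert, Finset.mem_singleton, not_or] at hc₂s
    obtain ⟨h3, h4⟩ := hc₂s
    have h6 : c₂.2 ≠ 0 := fun h0 => h3 (Prod.ext hc₂ h0)
    have h7 : (pp M s c₂).1 = (pp M s c).1 := h.fst (h.SP hs) hc₂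
    have h8 : pp M s c₂ ≠ c₂ := fun h0 => hne (by rw [← h7, h0, hc₂])
    have h9 := hEr c₂ h6 h8 c hc
    rw [if_neg (fun h0 : c = pp M s c₂ => hne (by rw [← h7, ← h0])), if_neg (fun h0 : c = c₂ => h4 h0.symm), hEc,
      add_zero] at h9
    exact one_ne_zero h9
  -- step 2
  have hμc : (μ c).2 ≠ 0 := fun h0 => hc (F.mnz.1 h0)
  have hμm : pp M s (μ c) ≠ μ c := fun h0 => hmv (μ.injective (by rw [← F.meqv s hs, h0]))
  have h3 := hEr (μ c) hμc hμm c hc
  rw [hEc, if_neg (F.mne c hc).symm, zero_add, F.meqv s hs] at h3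
  have h4 : c = μ (pp M s c) := by
    by_contra h0
    rw [if_neg h0] at h3
    exact one_ne_zero h3
  have h5 : pp M s c = μ c := by rw [h4, F.msq, ← h4]
  refine ⟨c, hc, ?_, h5⟩
  rw [hr c hc hmv, h5, F.mfst, pr_comm M (p := (c.1, 0)) (q := c) rfl,
    pr_mul M (p := c) (q := (c.1, 0)) (r := μ c) rfl (F.mfst c).symm]

/-- an element of `S` fixing all letters `≠ 0` centralises `ZZ` -/
theorem comm_zz_of_fix {s : G} (hs : s ∈ (S : Subgroup G)) (h1 : ∀ c : Pt k m, c.2 ≠ 0 → pp M s c = c) {z : G}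
    (hz : z ∈ zc (o2 P)) : s * z = z * s := by
  have h2 : pp M s = 1 := by
    ext1 q
    by_cases hq : q.2 = 0
    · obtain ⟨c, hc, hcs⟩ := exists_pt4 h.hm q.1 ({(q.1, 0)} : Finset (Pt k m)) (by simp)
      rw [Finset.mem_singleton] at hcs
      have hc0 : c.2 ≠ 0 := fun h0 => hcs (Prod.ext hc h0)
      have h4 := h.pp_zero hs c
      rw [h1 c hc0, hc] at h4
      have h5 : q = (q.1, 0) := Prod.ext rfl hq
      rw [h5, h4]
      rfl
    · exact h1 q hq
  have h3 := (h.mem_Q_iff hs).2 h2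
  exact (mem_zc.1 hz).2.1 s h3

theorem P_le_NZZ : P ≤ normalizer (zc (o2 P) : Set G) :=
  (le_normalizer_o2 P).trans (normalizer_le_normalizer_zc _)

section fin

variable [Finite G] (zv : zc (o2 P) ≤ V ⊔ DD M)

omit F h in
theorem swap_fst_eq {p q : Pt k m} (hpq : p.1 = q.1) (r : Pt k m) : (Equiv.swap p q r).1 = r.1 := by
  by_cases h1 : r = p
  · rw [h1, Equiv.swap_apply_left, hpq]
  by_cases h2 : r = q
  · rw [h2, Equiv.swap_apply_right, hpq]
  · rw [Equiv.swap_apply_of_ne_of_ne h1 h2]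

include zv in
/-- the action on `ZZ` of an element inducing `(p q)` -/
theorem swap_zz {g : G} (hgP : g ∈ P) {p q : Pt k m} (hpq : p.1 = q.1) (hg : pp M g = Equiv.swap p q) {z : G}
    (hz : z ∈ zc (o2 P)) : g * z * g⁻¹ = z ∨ g * z * g⁻¹ = z * pr M p q := by
  obtain ⟨v, hv, d, hd, rfl⟩ := h.zz_dec zv hz
  have hgd : g * d * g⁻¹ = d := by
    rw [(mem_DD.1 hd).2 g hgP fun r => ?_, mul_inv_cancel_right]
    rw [hg]; exact swap_fst_eq hpq r
  have e : g * (v * d) * g⁻¹ = g * v * g⁻¹ * d := by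
    calc g * (v * d) * g⁻¹ = g * v * g⁻¹ * (g * d * g⁻¹) := by group
      _ = g * v * g⁻¹ * d := by rw [hgd]
  rw [e]
  by_cases hE : E M v p = E M v q
  · left
    rw [h.comm_perp_of (p := p) (q := q) hgP (Or.inr hg) hv hE, mul_inv_cancel_right]
  · right
    rw [h.conj_swap hgP hpq hg hv hE, mul_assoc, mul_assoc,
      Sit.zz_comm (h.VZ (pr_mem M p q)) (mem_DD.1 hd).1]

variable {x : Pt k m} (hx : x.2 ≠ 0)
include F hx zv

/-- the group `R` -/
theorem lemC_exists {R : Subgroup G} (hR : IsPGroup 2 R) (hTR : tn S M μ x ≤ R)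
    (hRN : R ≤ normalizer (zc (o2 P) : Set G)) : ∃ g ∈ normalizer (zc (o2 P) : Set G),
      (∀ y ∈ R, g * y * g⁻¹ ∈ (S : Subgroup G)) ∧
      ∀ c : Pt k m, c.2 ≠ 0 → ∃ c' : Pt k m, c'.2 ≠ 0 ∧ g * pr M c (μ c) * g⁻¹ = pr M c' (μ c') := by
  obtain ⟨g, hg, hgR⟩ := FFThm.exists_conj_le S (h.SP.trans h.P_le_NZZ) hR hRN
  have hgR' : ∀ y ∈ R, g * y * g⁻¹ ∈ (S : Subgroup G) := fun y hy =>
    hgR (by rw [mem_cj]; convert hy using 1; group)
  refine ⟨g, hg, hgR', fun c hc => ?_⟩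
  obtain ⟨τ, hτ, hτp⟩ := h.exists_swap F hx hc
  have hτP := h.SP hτ.1
  have hcc : c.1 = (μ c).1 := (F.mfst c).symm
  have hs := hgR' τ (hTR hτ)
  have hgi : ∀ z ∈ zc (o2 P), g⁻¹ * z * g ∈ zc (o2 P) := fun z hz => by
    have := (mem_normalizer_iff.1 (inv_mem hg) z).1 hz
    rwa [inv_inv] at this
  have key : ∀ z ∈ zc (o2 P), g * τ * g⁻¹ * z * (g * τ * g⁻¹)⁻¹ = z ∨
      g * τ * g⁻¹ * z * (g * τ * g⁻¹)⁻¹ = z * (g * pr M c (μ c) * g⁻¹) := by
    intro z hz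
    have e : g * τ * g⁻¹ * z * (g * τ * g⁻¹)⁻¹ = g * (τ * (g⁻¹ * z * g) * τ⁻¹) * g⁻¹ := by group
    rw [e]
    rcases h.swap_zz zv hτP hcc hτp (hgi z hz) with h1 | h1
    · left; rw [h1]; group
    · right; rw [h1]; group
  have hmv : ∃ c : Pt k m, c.2 ≠ 0 ∧ pp M (g * τ * g⁻¹) c ≠ c := by
    by_contra hcon
    push Not at hcon
    -- `τ` centralises `ZZ`
    have h1 : ∀ z ∈ zc (o2 P), τ * z = z * τ := by
      intro z hz
      have h2 := h.comm_zz_of_fix hs hcon ((mem_normalizer_iff.1 hg z).1 hz)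
      calc τ * z = g⁻¹ * (g * τ * g⁻¹ * (g * z * g⁻¹)) * g := by group
        _ = z * τ := by rw [h2]; group
    have hE : E M (pr M (c.1, 0) c) c ≠ E M (pr M (c.1, 0) c) (μ c) := by
      classical
      rw [E_zz M hc, E_zz M (fun h0 => hc (F.mnz.1 h0)), if_pos rfl, if_neg (F.mne c hc)]
      exact one_ne_zero
    have h2 := h.conj_swap hτP hcc hτp (pr_mem M (c.1, 0) c) hE
    rw [h1 _ (h.VZ (pr_mem M (c.1, 0) c)), mul_inv_cancel_right] at h2
    exact h.pr_ne hcc (F.mne c hc).symm (mul_left_cancel ((mul_one _).trans h2)).symm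
  obtain ⟨c', hc', h1, -⟩ := h.trv F hs (fun v hv => key v (h.VZ hv)) hmv
  exact ⟨c', hc', h1⟩

/-- **LEMMA C, the centres** -/
theorem lemC_cen {R : Subgroup G} (hR : IsPGroup 2 R) (hTR : tn S M μ x ≤ R)
    (hRN : R ≤ normalizer (zc (o2 P) : Set G)) {y p : G} (hy : y ∈ R)
    (h1 : ∀ z ∈ zc (o2 P), y * z * y⁻¹ = z ∨ y * z * y⁻¹ = z * p) (h2 : ∃ z ∈ zc (o2 P), y * z ≠ z * y) :
    ∃ c : Pt k m, c.2 ≠ 0 ∧ p = pr M c (μ c) := by
  obtain ⟨g, hg, hgR, hgc⟩ := h.lemC_exists F zv hx hR hTR hRN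
  have hgi : ∀ z ∈ zc (o2 P), g⁻¹ * z * g ∈ zc (o2 P) := fun z hz => by
    have := (mem_normalizer_iff.1 (inv_mem hg) z).1 hz
    rwa [inv_inv] at this
  -- `g p g⁻¹` is a duad
  obtain ⟨c, hc, hgp, -⟩ := h.trv F (s := g * y * g⁻¹) (r := g * p * g⁻¹) (hgR y hy) (fun v hv => by
    have e : g * y * g⁻¹ * v * (g * y * g⁻¹)⁻¹ = g * (y * (g⁻¹ * v * g) * y⁻¹) * g⁻¹ := by group
    rw [e]
    rcases h1 _ (hgi v (h.VZ hv)) with h3 | h3
    · left; rw [h3]; group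
    · right; rw [h3]; group) (by
    by_contra hcon
    push Not at hcon
    obtain ⟨z, hz, h3⟩ := h2
    apply h3
    have h4 := h.comm_zz_of_fix (hgR y hy) hcon ((mem_normalizer_iff.1 hg z).1 hz)
    calc y * z = g⁻¹ * (g * y * g⁻¹ * (g * z * g⁻¹)) * g := by group
      _ = z * y := by rw [h4]; group)
  -- `c ↦ g c g⁻¹` is surjective on the duads
  let X : Type _ := {v : G // ∃ c : Pt k m, c.2 ≠ 0 ∧ v = pr M c (μ c)}
  let f : X → X := fun v => ⟨g * v.1 * g⁻¹, by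
    obtain ⟨c, hc, e⟩ := v.2
    obtain ⟨c', hc', e'⟩ := hgc c hc
    exact ⟨c', hc', by rw [e, e']⟩⟩
  have hf : Function.Injective f := by
    intro a b hab
    have h3 : g * a.1 * g⁻¹ = g * b.1 * g⁻¹ := congrArg Subtype.val hab
    exact Subtype.ext (mul_left_cancel (mul_right_cancel h3))
  obtain ⟨⟨v, hv⟩, hv2⟩ := Finite.surjective_of_injective hf ⟨pr M c (μ c), c, hc, rfl⟩
  have h3 : g * v * g⁻¹ = pr M c (μ c) := congrArg Subtype.val hv2
  obtain ⟨c', hc', rfl⟩ := hv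
  refine ⟨c', hc', ?_⟩
  rw [← hgp] at h3
  exact (mul_left_cancel (mul_right_cancel h3)).symm

/-- **LEMMA C, the order** -/
theorem lemC_le {R : Subgroup G} (hR : IsPGroup 2 R) (hTR : tn S M μ x ≤ R)
    (hRN : R ≤ normalizer (zc (o2 P) : Set G)) (hRn : R ≤ centralizer ({pr M x (μ x)} : Set G)) :
    R ≤ tn S M μ x := by
  obtain ⟨g, hg, hgR, hgc⟩ := h.lemC_exists F zv hx hR hTR hRN
  obtain ⟨c, hc, hcn⟩ := hgc x hx
  obtain ⟨s, hs, hsc⟩ := h.trans hx hc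
  have hpq : x.1 = (μ x).1 := (F.mfst x).symm
  have hsn : s * pr M x (μ x) * s⁻¹ = pr M c (μ c) := by
    rw [h.conj_pr (h.SP hs) hpq, F.meqv s hs, hsc]
  have h1 : R.map (MulAut.conj (s⁻¹ * g)).toMonoidHom ≤ tn S M μ x := by
    rintro _ ⟨y, hy, rfl⟩
    have hyS := hgR y hy
    have hyn : y * pr M x (μ x) = pr M x (μ x) * y := mem_centralizer_singleton_iff.1 (hRn hy)
    show s⁻¹ * g * y * (s⁻¹ * g)⁻¹ ∈ _
    have e : s⁻¹ * g * y * (s⁻¹ * g)⁻¹ = s⁻¹ * (g * y * g⁻¹) * s := by group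
    rw [e]
    refine mem_inf.2 ⟨mul_mem (mul_mem (inv_mem hs) hyS) hs, mem_centralizer_singleton_iff.2 ?_⟩
    have h2 : g * y * g⁻¹ * pr M c (μ c) = pr M c (μ c) * (g * y * g⁻¹) := by
      rw [← hcn]
      calc g * y * g⁻¹ * (g * pr M x (μ x) * g⁻¹) = g * (y * pr M x (μ x)) * g⁻¹ := by group
        _ = g * pr M x (μ x) * g⁻¹ * (g * y * g⁻¹) := by rw [hyn]; group
    rw [← hsn] at h2
    calc s⁻¹ * (g * y * g⁻¹) * s * pr M x (μ x) = s⁻¹ * (g * y * g⁻¹ * (s * pr M x (μ x) * s⁻¹)) * s := by group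
      _ = pr M x (μ x) * (s⁻¹ * (g * y * g⁻¹) * s) := by rw [h2]; group
  have h2 : Nat.card R ≤ Nat.card (tn S M μ x) := by
    have e : Nat.card (R.map (MulAut.conj (s⁻¹ * g)).toMonoidHom) = Nat.card R :=
      card_map_of_injective (MulAut.conj (s⁻¹ * g)).injective
    rw [← e]
    exact card_le_of_le h1
  exact (eq_of_le_of_card_ge hTR h2).ge

end fin

end Fw

end Cfsg.Agent.Omega.IId.SymWrD.Hw
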