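import Cfsg.Agent.Omega.IId.SymWrD.Hw.Fw
import Cfsg.Agent.MinSimple.Choice97

/-!
# THEOREM SYL^ (bb OMEGA #21666, helper916), steps (5), (6) (helper48)

`T_n = C_S(n)`, `p = n v₀ d₀`, `N` an abelian group normalised by `C_G(p)`.
* `Fw.syl_five` : the elements of `N ∩ T_n` act on the points as `1` or `(x μx)`;
* `Fw.syl_six` : `N ≤ T_n`.
-/

set_option autoImplicit false
set_option linter.unusedSectionVars false

namespace Cfsg.Agent.Omega.IId.SymWrD.Hw

open Subgroup Cfsg Cfsg.Agent.Omega.MinPar Cfsg.Agent.Omega.FFThm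
open Cfsg.Agent.ZN (o2 zc)
open Cfsg.Agent.Omega.Half.SymA (Pt E Mv pm)
open Cfsg.Agent.Omega.HT.LineOf (Ln ln pts dd)
open Cfsg.Agent.Omega.IId.Triangle (KK mem_KK KK_conj KK_le_o2)
open Cfsg.Agent.MinSimple.VModule (le_normalizer_o2 o2_isPGroup o2_le mem_zc zc_le normalizer_le_normalizer_zc)
open Cfsg.Agent.MinSimple.Geo (mem_o2_of_stab)
open Ht (DD mem_DD Fr Tri tn)

universe u

variable {G : Type u} [Group G] {k m : ℕ}

namespace Fw

variable {S : Sylow 2 G} {P V D : Subgroup G} {M : SymK (S : Subgroup G) P V ⊥ k m} (h : Fw S P V D M)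
  {μ ν : Equiv.Perm (Pt k m)} (F : Fours M μ ν) {x : Pt k m} (hx : x.2 ≠ 0)
include h F hx

/-- an element of `V` commuting with `T_n` takes the same value on `c` and its sibling, in the other summands -/
theorem fix_nu [Finite G] {v : G} (hv : v ∈ V) (hT : ∀ s ∈ tn S M μ x, s * v = v * s) {c : Pt k m}
    (hcx : c.1 ≠ x.1) : E M v (ν c) = E M v c := by
  classical
  have hinv : Function.Involutive (fun p : Pt k m => if p.1 = c.1 then ν p else p) := by
    intro p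
    by_cases h1 : p.1 = c.1
    · have h2 : (ν p).1 = c.1 := (F.nfst p).trans h1
      show (if (if p.1 = c.1 then ν p else p).1 = c.1 then ν (if p.1 = c.1 then ν p else p) else
        (if p.1 = c.1 then ν p else p)) = p
      rw [if_pos h1, if_pos h2, F.nsq]
    · show (if (if p.1 = c.1 then ν p else p).1 = c.1 then ν (if p.1 = c.1 then ν p else p) else
        (if p.1 = c.1 then ν p else p)) = p
      rw [if_neg h1, if_neg h1]
  obtain ⟨π, hπ⟩ : ∃ π : Equiv.Perm (Pt k m), ∀ p, π p = if p.1 = c.1 then ν p else p :=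
    ⟨hinv.toPerm, fun p => rfl⟩
  have hmem : π ∈ F.FD := by
    refine ⟨fun p => ?_, fun p => ?_⟩
    · rw [hπ]
      by_cases h1 : p.1 = c.1
      · rw [if_pos h1]; exact Or.inr (Or.inr (Or.inl rfl))
      · rw [if_neg h1]; exact Or.inl rfl
    · rw [hπ, hπ]
      by_cases h1 : p.1 = c.1
      · rw [if_pos h1, if_pos ((F.mfst p).trans h1), F.comm]
      · rw [if_neg h1, if_neg (fun e => h1 ((F.mfst p).symm.trans e))]
  obtain ⟨s, hs, e⟩ := Fours.exists_D h.toSit F hmem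
  have hsx : pp M s x = x := by rw [e, hπ, if_neg (Ne.symm hcx)]
  have hsm : pp M s (μ x) = μ x := by rw [F.meqv s hs.1, hsx]
  have hst : s ∈ tn S M μ x :=
    mem_inf.2 ⟨hs.1, mem_centralizer_singleton_iff.2 (h.comm_pr (h.SP hs.1) (F.mfst x).symm (Or.inl ⟨hsx, hsm⟩))⟩
  have h1 := (h.comm_iff (h.SP hs.1) hv).1 (hT s hst) c
  rwa [e, hπ, if_pos rfl] at h1

/-- **(5)** -/
theorem syl_five [Finite G] {v₀ d₀ : G} (hv₀ : v₀ ∈ V) (hd₀ : d₀ ∈ DD M) (hvT : ∀ s ∈ tn S M μ x, s * v₀ = v₀ * s)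
    (hdT : ∀ s ∈ tn S M μ x, s * d₀ = d₀ * s) (h0 : E M v₀ x = 0) {N : Subgroup G}
    (hNab : ∀ a ∈ N, ∀ b ∈ N, a * b = b * a)
    (hCN : ∀ g, g * (pr M x (μ x) * (v₀ * d₀)) = pr M x (μ x) * (v₀ * d₀) * g → ∀ a ∈ N, g * a * g⁻¹ ∈ N)
    {y : G} (hyN : y ∈ N) (hyT : y ∈ tn S M μ x) : pp M y = 1 ∨ pp M y = Equiv.swap x (μ x) := by
  classical
  have hyS := hyT.1
  have hyP := h.SP hyS
  have hmulc : ∀ {y a b : G}, y * a = a * y → y * b = b * y → y * (a * b) = a * b * y := by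
    intro y a b h2 h3
    rw [← mul_assoc, h2, mul_assoc, h3, mul_assoc]
  -- `T_n` normalises `N`
  have hTN : ∀ s ∈ tn S M μ x, ∀ a ∈ N, s * a * s⁻¹ ∈ N := fun s hs =>
    hCN s (hmulc (mem_centralizer_singleton_iff.1 hs.2) (hmulc (hvT s hs) (hdT s hs)))
  have hVT := h.V_le_tn F hx
  have hμ2 : ∀ {c : Pt k m}, c.2 ≠ 0 → (μ c).2 ≠ 0 := fun hc h0 => hc (F.mnz.1 h0)
  have hxn : ∀ {c : Pt k m}, E M (pr M x (μ x)) (c.1, 0) = 0 := by
    intro c
    refine E_pr_of_ne M (F.mfst x).symm (fun e => hx ?_) (fun e => hμ2 hx ?_)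
    · rw [← e]
    · rw [← e]
  -- the duad of `c` lies in `N`
  have hdu : ∀ {c : Pt k m} {a : G}, a ∈ N → a ∈ tn S M μ x → pp M a c = μ c → pr M c (μ c) ∈ N := by
    intro c a ha haT hac
    have h1 : a * pr M (c.1, 0) c * a⁻¹ = pr M (c.1, 0) (μ c) := by
      rw [h.conj_zz haT.1, hac, F.mfst]
    have hv := pr_mem M (c.1, 0) c
    have h2 : pr M c (μ c) = pr M (c.1, 0) c * a * (pr M (c.1, 0) c)⁻¹ * a⁻¹ := by
      have h3 : (pr M (c.1, 0) c)⁻¹ = pr M (c.1, 0) c := inv_eq_of_mul_eq_one_left (h.Vsq hv)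
      calc pr M c (μ c) = pr M c (c.1, 0) * pr M (c.1, 0) (μ c) :=
            (pr_mul M (p := c) (q := (c.1, 0)) (r := μ c) rfl (F.mfst c).symm).symm
        _ = pr M (c.1, 0) c * (a * pr M (c.1, 0) c * a⁻¹) := by
            rw [h1, pr_comm M (p := c) (q := (c.1, 0)) rfl]
        _ = _ := by rw [h3]; group
    rw [h2]
    exact mul_mem (hTN _ (hVT hv) a ha) (inv_mem ha)
  -- A
  have hA : ∀ c : Pt k m, c.2 ≠ 0 → pp M y c = c ∨ pp M y c = μ c := by
    intro c hc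
    by_contra hcon
    push Not at hcon
    obtain ⟨h1, h2⟩ := hcon
    obtain ⟨τ, hτ, hτp⟩ := h.exists_swap F hx hc
    have hτP := h.SP hτ.1
    have hai : τ⁻¹ * y * τ⁻¹⁻¹ * y⁻¹ ∈ N := mul_mem (hTN _ (inv_mem hτ) y hyN) (inv_mem hyN)
    have haT : τ⁻¹ * y * τ⁻¹⁻¹ * y⁻¹ ∈ tn S M μ x :=
      mul_mem (mul_mem (mul_mem (inv_mem hτ) hyT) (inv_mem (inv_mem hτ))) (inv_mem hyT)
    have hpp : pp M (τ⁻¹ * y * τ⁻¹⁻¹ * y⁻¹) c = μ c := by
      have e1 : pp M (τ⁻¹ * y * τ⁻¹⁻¹ * y⁻¹) = (pp M τ)⁻¹ * pp M y * pp M τ * (pp M y)⁻¹ := by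
        rw [inv_inv, h.mul (mul_mem (mul_mem (inv_mem hτP) hyP) hτP) (inv_mem hyP),
          h.mul (mul_mem (inv_mem hτP) hyP) hτP, h.mul (inv_mem hτP) hyP, h.inv hτP, h.inv hyP]
      have hyy : pp M y ((pp M y)⁻¹ c) = c := (pp M y).apply_symm_apply c
      have e2 : (pp M y)⁻¹ c ≠ c := fun e => h1 (by rw [e] at hyy; exact hyy)
      have e3 : (pp M y)⁻¹ c ≠ μ c := fun e => h2 (by
        rw [e, F.meqv y hyS] at hyy
        rw [← hyy, F.msq]
        rw [hyy])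
      rw [e1, Equiv.Perm.mul_apply, Equiv.Perm.mul_apply, Equiv.Perm.mul_apply, hτp,
        Equiv.swap_apply_of_ne_of_ne e2 e3, hyy, Equiv.swap_inv, Equiv.swap_apply_left]
    have hr := hdu hai haT hpp
    have h3 := hNab y hyN _ hr
    have h4 := (h.comm_iff hyP (pr_mem M c (μ c))).1 h3 c
    rw [E_pr_left M (F.mfst c).symm (F.mne c hc).symm, E_pr_of_ne M (F.mfst c).symm h1 h2] at h4
    exact zero_ne_one h4
  -- B
  have hB : ∀ c : Pt k m, c.2 ≠ 0 → c ≠ x → c ≠ μ x → pp M y c = c := by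
    intro c hc hcx hcm
    refine (hA c hc).resolve_right fun hyc => ?_
    have hr := hdu hyN hyT hyc
    have hμc := F.mne c hc
    have hcc : (μ c).1 = c.1 := F.mfst c
    have hpv : pr M x (μ x) * v₀ ∈ V := mul_mem (pr_mem M _ _) hv₀
    have hEm := fun q => Half.SymA.E_mul M (pr_mem M x (μ x)) hv₀ (p := q)
    have hvm : E M v₀ (μ c) = E M v₀ c := h.fix_mu F hx hv₀ hvT c
    obtain ⟨c', h1, h2, h3, h4⟩ : ∃ c' : Pt k m, (μ c).1 = c'.1 ∧ c' ≠ c ∧ c' ≠ μ c ∧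
        E M (pr M x (μ x) * v₀) (μ c) = E M (pr M x (μ x) * v₀) c' := by
      have hxm : E M (pr M x (μ x)) (μ c) = 0 := by
        refine E_pr_of_ne M (F.mfst x).symm (fun e => hcm ?_) (fun e => hcx (μ.injective e))
        rw [← e, F.msq]
      by_cases hv0 : E M v₀ (μ c) = 0
      · refine ⟨(c.1, 0), hcc, fun e => hc (by rw [← e]), fun e => hμ2 hc (by rw [← e]), ?_⟩
        rw [hEm, hEm, hxm, hv0, hxn, h.fix_zero F hx hv₀ hvT c.1]
      · by_cases hcb : c.1 = x.1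
        · refine ⟨x, hcc.trans hcb, Ne.symm hcx, fun e => hcm ?_, ?_⟩
          · rw [e, F.msq]
          · have k1 : ∀ a : ZMod 2, a ≠ 0 → a = 1 := by decide
            rw [hEm, hEm, hxm, k1 _ hv0, h0, E_pr_left M (F.mfst x).symm (F.mne x hx).symm]
            decide
        · have hnb : ν c ≠ x := fun e => hcb (by rw [← F.nfst c, e])
          have hnb' : ν c ≠ μ x := fun e => hcb (by rw [← F.nfst c, e, F.mfst])
          refine ⟨ν c, hcc.trans (F.nfst c).symm, F.nne c hc, F.nmu c hc, ?_⟩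
          rw [hEm, hEm, hxm, hvm, h.fix_nu F hx hv₀ hvT hcb, E_pr_of_ne M (F.mfst x).symm hnb hnb']
    obtain ⟨g, hg, hgp⟩ := h.exists_pp (π := Equiv.swap (μ c) c') fun q => swap_fst_eq h1 q
    have hgd : g * d₀ = d₀ * g := (mem_DD.1 hd₀).2 g hg fun r => by rw [hgp]; exact swap_fst_eq h1 r
    have hgv : g * (pr M x (μ x) * v₀) = pr M x (μ x) * v₀ * g := h.comm_perp_of hg (Or.inr hgp) hpv h4
    have hyg : g * y * g⁻¹ ∈ N := by
      refine hCN g ?_ y hyN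
      rw [← mul_assoc (pr M x (μ x))]
      exact hmulc hgv hgd
    have hgy : pp M (g * y * g⁻¹) c = c' := by
      rw [h.conj hg hyP, hgp, Equiv.Perm.mul_apply, Equiv.Perm.mul_apply, Equiv.swap_inv,
        Equiv.swap_apply_of_ne_of_ne hμc.symm (Ne.symm h2), hyc, Equiv.swap_apply_left]
    have h5 := hNab _ hyg _ hr
    have h6 := (h.comm_iff (mul_mem (mul_mem hg hyP) (inv_mem hg)) (pr_mem M c (μ c))).1 h5 c
    rw [hgy, E_pr_left M (F.mfst c).symm hμc.symm, E_pr_of_ne M (F.mfst c).symm h2 h3] at h6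
    exact zero_ne_one h6
  -- the points `(i, 0)`
  have hZ : ∀ q : Pt k m, q.2 = 0 → pp M y q = q := by
    intro q hq
    obtain ⟨c, hc, hcs⟩ := exists_pt4 h.hm q.1 ({(q.1, 0)} : Finset (Pt k m)) (by simp)
    rw [Finset.mem_singleton] at hcs
    have hc0 : c.2 ≠ 0 := fun h0 => hcs (Prod.ext hc h0)
    have h1 : (pp M y c).1 = c.1 := by
      rcases hA c hc0 with e | e
      · rw [e]
      · rw [e, F.mfst]
    have h2 := h.pp_zero hyS c
    rw [h1, hc] at h2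
    have h3 : q = (q.1, 0) := Prod.ext rfl hq
    rw [h3]; exact h2
  have hym : pp M y (μ x) = μ (pp M y x) := F.meqv y hyS x
  rcases hA x hx with hyx | hyx
  · left
    ext1 q
    rw [Equiv.Perm.one_apply]
    by_cases h1 : q.2 = 0
    · exact hZ q h1
    by_cases h2 : q = x
    · rw [h2, hyx]
    by_cases h3 : q = μ x
    · rw [h3, hym, hyx]
    exact hB q h1 h2 h3
  · right
    ext1 q
    by_cases h2 : q = x
    · rw [h2, hyx, Equiv.swap_apply_left]
    by_cases h3 : q = μ x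
    · rw [h3, hym, hyx, F.msq, Equiv.swap_apply_right]
    rw [Equiv.swap_apply_of_ne_of_ne h2 h3]
    by_cases h1 : q.2 = 0
    · exact hZ q h1
    exact hB q h1 h2 h3

/-- an element acting as `1` or `(x μx)` commutes with the perp in `Ω₁Z(O₂(P))` -/
theorem comm_perp' {g : G} (hg : g ∈ P) (hgp : pp M g = 1 ∨ pp M g = Equiv.swap x (μ x)) {v d : G} (hv : v ∈ V)
    (hE : E M v x = E M v (μ x)) (hd : d ∈ DD M) : g * (v * d) = v * d * g := by
  have h1 := h.comm_perp_of hg hgp hv hE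
  have h2 : g * d = d * g := (mem_DD.1 hd).2 g hg fun r => by
    rcases hgp with e | e
    · rw [e]; rfl
    · rw [e]; exact swap_fst_eq (F.mfst x).symm r
  rw [← mul_assoc, h1, mul_assoc, h2, mul_assoc]

/-- **(6)** -/
theorem syl_six [Finite G] (zv : zc (o2 P) ≤ V ⊔ DD M) {T N : Subgroup G} (hTT : tn S M μ x ≤ T)
    (hTp : IsPGroup 2 T) (hTa : T ≤ centralizer ({pr M x (μ x)} : Set G)) (hNT : N ≤ T)
    (hTN : tn S M μ x ≤ normalizer (N : Set G)) (hNr : ∀ y ∈ N, y * pr M x (x.1, 0) = pr M x (x.1, 0) * y)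
    (h5 : ∀ y ∈ N, y ∈ tn S M μ x → pp M y = 1 ∨ pp M y = Equiv.swap x (μ x)) : N ≤ tn S M μ x := by
  classical
  by_contra hNt
  have hle : tn S M μ x ⊔ N ≤ T := sup_le hTT hNT
  have hlt : tn S M μ x < tn S M μ x ⊔ N := lt_of_le_of_ne le_sup_left fun e => hNt (le_sup_right.trans e.ge)
  obtain ⟨s, hs, hsN, hst, -⟩ := MinSimple.Choice97.exists_normalizing (hTp.to_le hle) hlt
  obtain ⟨t, ht, y, hy, rfl⟩ := mem_sup_norm hTN hs
  have hyn : y ∈ normalizer (tn S M μ x : Set G) := by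
    have e : y = t⁻¹ * (t * y) := by group
    rw [e]; exact mul_mem (inv_mem (le_normalizer ht)) hsN
  have hyt : y ∉ tn S M μ x := fun h1 => hst (mul_mem ht h1)
  have hQt := h.Q_le_tn F hx
  -- `[Q, y] ≤ N ∩ T_n`
  have key : ∀ q ∈ o2 P, q⁻¹ * (y⁻¹ * q * y) ∈ N ∧ q⁻¹ * (y⁻¹ * q * y) ∈ tn S M μ x := by
    intro q hq
    have hqt := hQt hq
    constructor
    · have h1 := (mem_normalizer_iff.1 (hTN (inv_mem hqt)) y⁻¹).1 (inv_mem hy)
      rw [inv_inv] at h1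
      have e : q⁻¹ * (y⁻¹ * q * y) = q⁻¹ * y⁻¹ * q * y := by group
      rw [e]; exact mul_mem h1 hy
    · have h1 := (mem_normalizer_iff.1 (inv_mem hyn) q).1 hqt
      rw [inv_inv] at h1
      exact mul_mem (inv_mem hqt) h1
  -- the perp
  have hperp : ∀ v ∈ V, E M v x = E M v (μ x) → ∀ d ∈ DD M, y * (v * d) * y⁻¹ ∈ zc (o2 P) := by
    intro v hv hE d hd
    have hz : v * d ∈ zc (o2 P) := mul_mem (h.VZ hv) (mem_DD.1 hd).1
    refine h.mem_zc_of F hx ?_ fun q hq => ?_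
    · calc y * (v * d) * y⁻¹ * (y * (v * d) * y⁻¹) = y * (v * d * (v * d)) * y⁻¹ := by group
        _ = 1 := by rw [Sit.zz_sq hz]; group
    · obtain ⟨h1, h2⟩ := key q hq
      have h3 := h.comm_perp' F hx (h.SP h2.1) (h5 _ h1 h2) hv hE hd
      have h4 : q * (v * d) = v * d * q := (mem_zc.1 hz).2.1 q hq
      have h5' : y⁻¹ * q * y * (v * d) = v * d * (y⁻¹ * q * y) := by
        calc y⁻¹ * q * y * (v * d) = q * (q⁻¹ * (y⁻¹ * q * y) * (v * d)) := by group
          _ = q * (v * d) * (q⁻¹ * (y⁻¹ * q * y)) := by rw [h3]; group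
          _ = v * d * (y⁻¹ * q * y) := by rw [h4]; group
      calc q * (y * (v * d) * y⁻¹) = y * (y⁻¹ * q * y * (v * d)) * y⁻¹ := by group
        _ = y * (v * d) * y⁻¹ * q := by rw [h5']; group
  have t := h.tri F hx
  have hyr := hNr y hy
  have hyZ : y ∈ normalizer (zc (o2 P) : Set G) := by
    refine BTwo.mem_normalizer_of_conj fun z hz => ?_
    obtain ⟨v, hv, d, hd, rfl⟩ := h.zz_dec zv hz
    by_cases hE : E M v x = E M v (μ x)
    · exact hperp v hv hE d hd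
    · have hr := pr_mem M x (x.1, 0)
      have h1 : E M (pr M x (x.1, 0) * v) x = E M (pr M x (x.1, 0) * v) (μ x) := by
        rw [Half.SymA.E_mul M hr hv, Half.SymA.E_mul M hr hv, E_pr_left M t.pr t.n2,
          E_pr_of_ne M t.pr t.n1.symm t.n3]
        have k1 : ∀ a b : ZMod 2, a ≠ b → 1 + a = 0 + b := by decide
        exact k1 _ _ hE
      have h2 := hperp _ (mul_mem hr hv) h1 d hd
      have e : y * (v * d) * y⁻¹ = pr M x (x.1, 0) * (y * (pr M x (x.1, 0) * v * d) * y⁻¹) := by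
        calc y * (v * d) * y⁻¹ = y * (pr M x (x.1, 0) * pr M x (x.1, 0)) * (v * d) * y⁻¹ := by
              rw [h.pr_sq, mul_one]
          _ = y * pr M x (x.1, 0) * (pr M x (x.1, 0) * (v * d)) * y⁻¹ := by group
          _ = _ := by rw [hyr]; group
      rw [e]
      exact mul_mem (h.VZ hr) h2
  have hR : tn S M μ x ⊔ zpowers y ≤ T := sup_le hTT (zpowers_le.2 (hNT hy))
  have h7 := h.lemC_le F zv hx (hTp.to_le hR) le_sup_left
    (sup_le ((fun s hs => h.P_le_NZZ (h.SP hs.1)) : tn S M μ x ≤ _) (zpowers_le.2 hyZ)) (hR.trans hTa)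
  exact hyt (h7 (mem_sup_right (mem_zpowers y)))

end Fw

end Cfsg.Agent.Omega.IId.SymWrD.Hw
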